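import Groth.Agent.Ega3B.FibreSpread
import Groth.Agent.S1386
import Groth.Agent.S10895

/-!
# The locus over which a morphism between proper schemes is an isomorphism
-/

set_option autoImplicit false
universe u

open CategoryTheory AlgebraicGeometry TopologicalSpace CategoryTheory.Limits

namespace K260.IsoLocus

open Groth.Agent.Ega3B.FibreSpread

variable {X Y S : Scheme.{u}}

theorem fiberMap_eq (f : X ⟶ Y) (h : Y ⟶ S) (s : S) :
    MoreMor.fiberMap f h s = CohIII.fiberMapOver f (f ≫ h) h rfl s := by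
  rw [← cancel_mono (h.fiberι s), fiberMapOver_fiberι]
  unfold MoreMor.fiberMap Scheme.Hom.fiberι
  erw [pullback.lift_fst]

/-- `f` is flat at the points of the fibre above `s` if the fibre map is an isomorphism. -/
theorem flat_at (f : X ⟶ Y) (h : Y ⟶ S) [LocallyOfFinitePresentation (f ≫ h)] [LocallyOfFiniteType h]
    [Flat (f ≫ h)] (x : X) (hP : IsIso (CohIII.fiberMapOver f (f ≫ h) h rfl (h (f x)))) :
    (f.stalkMap x).hom.Flat := by
  have h1 := (Groth.Agent.S1386.result f h).1 x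
  refine (h1.1 ⟨Flat.stalkMap _ _, ?_⟩).2
  have : IsIso (MoreMor.fiberMap f h (h (f x))) := by rw [fiberMap_eq]; exact hP
  exact Flat.stalkMap _ _

/-- If the fibre map above `h y` is an isomorphism, then `f` is an isomorphism near `y`. -/
theorem exists_isIso_near (f : X ⟶ Y) (g : X ⟶ S) (h : Y ⟶ S) (w : f ≫ h = g)
    [IsProper f] [LocallyOfFinitePresentation f] [LocallyOfFinitePresentation g] [LocallyOfFiniteType h]
    [Flat g] (y : Y) (hP : IsIso (CohIII.fiberMapOver f g h w (h y))) :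
    ∃ V : Y.Opens, y ∈ V ∧ IsIso (f ∣_ V) := by
  subst w
  obtain ⟨V, hyV, hV⟩ := exists_isClosedImmersion_near' f _ h rfl y inferInstance
  -- the point of X above y
  have hiso := fiberToSpec_of_fiberMapOver (P := MorphismProperty.isomorphisms Scheme.{u}) f _ h rfl y hP
  have hiso' : IsIso (f.fiberToSpecResidueField y) := hiso
  obtain ⟨z, -⟩ := (f.fiberToSpecResidueField y).surjective (IsLocalRing.closedPoint (Y.residueField y))
  set x : X := f.fiberι y z with hx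
  have hfx : f x = y := by
    have : x ∈ Set.range (f.fiberι y) := ⟨z, rfl⟩
    rw [f.range_fiberι y] at this
    exact this
  have hflat : (f.stalkMap x).hom.Flat := by
    apply flat_at f h x
    rw [hfx]; exact hP
  have hxV : x ∈ f ⁻¹ᵁ V := by
    change f x ∈ V
    rw [hfx]; exact hyV
  have hflat' : ((f ∣_ V).stalkMap ⟨x, hxV⟩).hom.Flat := by
    have h1 : Function.Bijective (V.ι.stalkMap ((f ∣_ V) ⟨x, hxV⟩)) := ConcreteCategory.bijective_of_isIso _
    have e1 := Scheme.Hom.stalkMap_comp (f ∣_ V) V.ι ⟨x, hxV⟩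
    have h2 : ((f ∣_ V ≫ V.ι).stalkMap ⟨x, hxV⟩).hom.Flat := by
      have e2 : f ∣_ V ≫ V.ι = (f ⁻¹ᵁ V).ι ≫ f := morphismRestrict_ι f V
      have h3 : (((f ⁻¹ᵁ V).ι ≫ f).stalkMap ⟨x, hxV⟩).hom.Flat := by
        rw [Scheme.Hom.stalkMap_comp]
        exact RingHom.Flat.comp hflat (Flat.stalkMap (f ⁻¹ᵁ V).ι ⟨x, hxV⟩)
      rw [Scheme.Hom.stalkMap_congr_hom _ _ e2]
      exact RingHom.Flat.comp (RingHom.Flat.of_bijective (ConcreteCategory.bijective_of_isIso _)) h3
    rw [e1] at h2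
    have h4 : ((f ∣_ V).stalkMap ⟨x, hxV⟩) = inv (V.ι.stalkMap ((f ∣_ V) ⟨x, hxV⟩)) ≫
      (V.ι.stalkMap ((f ∣_ V) ⟨x, hxV⟩) ≫ (f ∣_ V).stalkMap ⟨x, hxV⟩) := by simp
    rw [h4]
    exact RingHom.Flat.comp (RingHom.Flat.of_bijective (ConcreteCategory.bijective_of_isIso _)) h2
  obtain ⟨V', hyV', hV'⟩ := Groth.Agent.S10895.result (f ∣_ V) ⟨x, hxV⟩ hflat'
  refine ⟨V.ι ''ᵁ V', ⟨_, hyV', ?_⟩, ?_⟩
  · have : V.ι ((f ∣_ V) ⟨x, hxV⟩) = f x := by
      rw [← Scheme.Hom.comp_apply, morphismRestrict_ι]; rfl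
    exact this.trans hfx
  · exact (MorphismProperty.arrow_mk_iso_iff (MorphismProperty.isomorphisms Scheme.{u}) (morphismRestrictRestrict f V V')).mp hV'

/-- The largest open subset of the target over which `f` is an isomorphism. -/
def isoOpen (f : X ⟶ Y) : Y.Opens :=
  ⨆ V : {V : Y.Opens // IsIso (f ∣_ V)}, V.1

theorem le_isoOpen (f : X ⟶ Y) (V : Y.Opens) (hV : IsIso (f ∣_ V)) : V ≤ isoOpen f :=
  le_iSup (fun V : {V : Y.Opens // IsIso (f ∣_ V)} ↦ V.1) ⟨V, hV⟩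

theorem isIso_mono (f : X ⟶ Y) (V W : Y.Opens) (hVW : V ≤ W) (hW : IsIso (f ∣_ W)) : IsIso (f ∣_ V) := by
  have e : W.ι ''ᵁ (W.ι ⁻¹ᵁ V) = V := by
    rw [Scheme.Hom.image_preimage_eq_opensRange_inf]
    simpa using hVW
  have h1 : IsIso (f ∣_ W ∣_ (W.ι ⁻¹ᵁ V)) := inferInstance
  have h2 := (MorphismProperty.arrow_mk_iso_iff (MorphismProperty.isomorphisms Scheme.{u})
    (morphismRestrictRestrict f W (W.ι ⁻¹ᵁ V))).mp h1
  rw [e] at h2
  exact h2

theorem isIso_isoOpen (f : X ⟶ Y) : IsIso (f ∣_ (isoOpen f)) := by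
  change MorphismProperty.isomorphisms Scheme.{u} (f ∣_ (isoOpen f))
  have key : ∀ V : {V : Y.Opens // IsIso (f ∣_ V)}, MorphismProperty.isomorphisms Scheme.{u}
      (f ∣_ (isoOpen f) ∣_ ((isoOpen f).ι ⁻¹ᵁ V.1)) := by
    intro V
    refine (MorphismProperty.arrow_mk_iso_iff (MorphismProperty.isomorphisms Scheme.{u})
      (morphismRestrictRestrict f (isoOpen f) ((isoOpen f).ι ⁻¹ᵁ V.1))).mpr ?_
    have e : (isoOpen f).ι ''ᵁ ((isoOpen f).ι ⁻¹ᵁ V.1) = V.1 := by
      rw [Scheme.Hom.image_preimage_eq_opensRange_inf]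
      simpa using le_isoOpen f V.1 V.2
    rw [e]
    exact V.2
  refine IsZariskiLocalAtTarget.of_iSup_eq_top (P := MorphismProperty.isomorphisms Scheme.{u}) _ ?_ key
  rw [← Scheme.Hom.preimage_iSup]
  change (isoOpen f).ι ⁻¹ᵁ (isoOpen f) = ⊤
  simp

end K260.IsoLocus
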