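import Mathlib.AlgebraicGeometry.Noetherian
import Mathlib.AlgebraicGeometry.Morphisms.UniversallyOpen
import Mathlib.AlgebraicGeometry.Morphisms.Flat

/-!
# Maximal points (generic points of irreducible components)
-/

set_option autoImplicit false
universe u

open CategoryTheory AlgebraicGeometry TopologicalSpace

namespace K260.Gen

section Top
variable {T : Type*} [TopologicalSpace T] [QuasiSober T] [T0Space T]

/-- A maximal point: no proper generization. -/
def IsMax (x : T) : Prop := ∀ y : T, y ⤳ x → y = x

omit [QuasiSober T] [T0Space T] in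
theorem IsMax.eq {x y : T} (hx : IsMax x) (h : y ⤳ x) : y = x := hx y h

theorem isMax_iff (x : T) : IsMax x ↔ closure {x} ∈ irreducibleComponents T := by
  constructor
  · intro h
    refine ⟨isIrreducible_singleton.closure, fun Z hZ hle ↦ ?_⟩
    obtain ⟨y, hy⟩ := QuasiSober.sober hZ.closure isClosed_closure
    have h1 : y ⤳ x := by
      rw [specializes_iff_mem_closure, hy.def]
      exact subset_closure (hle (subset_closure rfl))
    have h3 : y = x := h _ h1
    rw [← h3]
    exact subset_closure.trans (le_of_eq (Eq.symm hy))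
  · intro h y hy
    have h1 : closure {x} ⊆ closure {y} := hy.closure_subset
    have h2 : closure {y} ⊆ closure {x} := h.2 isIrreducible_singleton.closure h1
    have h3 : x ⤳ y := by
      rw [specializes_iff_mem_closure]
      exact h2 (subset_closure rfl)
    exact (hy.antisymm h3).eq

theorem exists_isMax (x : T) : ∃ ξ : T, ξ ⤳ x ∧ IsMax ξ := by
  have hirr := irreducibleComponent_mem_irreducibleComponents x
  obtain ⟨ξ, hξ⟩ := QuasiSober.sober (isIrreducible_irreducibleComponent (x := x))
    isClosed_irreducibleComponent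
  refine ⟨ξ, ?_, ?_⟩
  · rw [specializes_iff_mem_closure, hξ.def]; exact mem_irreducibleComponent
  · rw [isMax_iff, hξ.def]; exact hirr

/-- every irreducible component has a generic point, which is maximal -/
theorem exists_isMax_of_mem {Z : Set T} (hZ : Z ∈ irreducibleComponents T) :
    ∃ ξ : T, IsMax ξ ∧ closure {ξ} = Z := by
  obtain ⟨ξ, hξ⟩ := QuasiSober.sober hZ.1 (isClosed_of_mem_irreducibleComponents Z hZ)
  exact ⟨ξ, by rw [isMax_iff, hξ.def]; exact hZ, hξ⟩

/-- every irreducible closed set lies in an irreducible component -/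
theorem exists_isMax_of_mem_irreducibleComponent {Z : Set T} (hZ : Z ∈ irreducibleComponents T)
    {x : T} (hx : x ∈ Z) : ∃ ξ : T, IsMax ξ ∧ closure {ξ} = Z ∧ ξ ⤳ x := by
  obtain ⟨ξ, h1, h2⟩ := exists_isMax_of_mem hZ
  exact ⟨ξ, h1, h2, by rw [specializes_iff_mem_closure, h2]; exact hx⟩

end Top

/-- a generalizing map sends maximal points to maximal points -/
theorem IsMax.map {T S : Type*} [TopologicalSpace T] [TopologicalSpace S] {f : T → S}
    (hf : GeneralizingMap f) {x : T} (hx : IsMax x) : IsMax (f x) := by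
  intro y hy
  obtain ⟨x', hx', rfl⟩ := hf hy
  rw [hx x' hx']

/-- in a locally Noetherian scheme a dense open contains all maximal points -/
theorem mem_of_dense (X : Scheme.{u}) [IsLocallyNoetherian X] (U : X.Opens) (hd : Dense (U : Set X)) (ξ : X)
    (h : IsMax ξ) : ξ ∈ U := by
  obtain ⟨V, hV, hξV, -⟩ := exists_isAffineOpen_mem_and_subset (U := ⊤) (x := ξ) trivial
  have : IsNoetherianRing Γ(X, V) := IsLocallyNoetherian.component_noetherian ⟨V, hV⟩
  have : TopologicalSpace.NoetherianSpace V := noetherianSpace_of_isAffineOpen V hV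
  have : QuasiSober V := inferInstanceAs (QuasiSober V.toScheme)
  have : T0Space V := inferInstanceAs (T0Space V.toScheme)
  have hirr : closure {(⟨ξ, hξV⟩ : V)} ∈ irreducibleComponents V := by
    refine (isMax_iff (T := V) (⟨ξ, hξV⟩ : V)).1 ?_
    intro y hy
    exact Subtype.ext (h _ (hy.map continuous_subtype_val))
  obtain ⟨o, ho, hne, hoZ⟩ :=
    TopologicalSpace.NoetherianSpace.exists_isOpen_nonempty_subset_irreducibleComponent _ hirr
  have ho' : IsOpen (Subtype.val '' o : Set X) := V.2.isOpenMap_subtype_val o ho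
  obtain ⟨_, ⟨y, hyo, rfl⟩, hyU⟩ := hd.inter_open_nonempty _ ho' (hne.image _)
  have h1 : (⟨ξ, hξV⟩ : V) ⤳ y := specializes_iff_mem_closure.mpr (hoZ hyo)
  have h2 : ξ ⤳ y.1 := h1.map continuous_subtype_val
  exact h2.mem_open U.2 hyU

end K260.Gen
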