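import Mathlib.AlgebraicGeometry.Morphisms.Flat
import Mathlib.AlgebraicGeometry.FunctionField
import Mathlib.RingTheory.Flat.TorsionFree
import Mathlib.RingTheory.RegularLocalRing.Defs
import Mathlib.RingTheory.DiscreteValuationRing.TFAE
import Groth.Agent.FlatMor.K260.Gen

/-!
# Flatness over an integral scheme with regular local rings of dimension at most one
-/

set_option autoImplicit false
universe u

open CategoryTheory AlgebraicGeometry TopologicalSpace

namespace K260.DedFlat

/-- A regular local domain of dimension at most one is a valuation ring. -/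
theorem valuationRing_of_regular (R : Type*) [CommRing R] [IsDomain R] [IsRegularLocalRing R]
    (h : ringKrullDim R ≤ 1) : ValuationRing R := by
  have h1 := (IsRegularLocalRing.iff_finrank_cotangentSpace (R := R)).1 inferInstance
  have h2 : Module.finrank (IsLocalRing.ResidueField R) (IsLocalRing.CotangentSpace R) ≤ 1 := by
    rw [← h1] at h
    exact_mod_cast h
  exact ((tfae_of_isNoetherianRing_of_isLocalRing_of_isDomain R).out 5 1).1 h2

variable {X Y : Scheme.{u}}

/-- The Krull dimension of the stalks is bounded by the dimension of the scheme. -/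
theorem ringKrullDim_stalk_le (Y : Scheme.{u}) (y : Y) :
    ringKrullDim (Y.presheaf.stalk y) ≤ topologicalKrullDim Y := by
  rw [← PrimeSpectrum.topologicalKrullDim_eq_ringKrullDim]
  exact (Y.fromSpecStalk y).isEmbedding.isInducing.topologicalKrullDim_le

/-- Flatness of modules over sections on an affine open. -/
theorem flat_iff [IsIntegral Y] (hY : ∀ y : Y, ValuationRing (Y.presheaf.stalk y)) (U : Y.Opens)
    (hU : IsAffineOpen U) [Nonempty U] (M : Type u) [AddCommGroup M] [Module Γ(Y, U) M] :
    Module.Flat Γ(Y, U) M ↔ Submodule.torsion Γ(Y, U) M = ⊥ := by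
  apply Module.Flat.flat_iff_torsion_eq_bot_of_valuationRing_localization_isMaximal
  intro P hP
  let x : PrimeSpectrum Γ(Y, U) := ⟨P, hP.isPrime⟩
  let : Algebra Γ(Y, U) (Y.presheaf.stalk (hU.fromSpec x)) :=
    TopCat.Presheaf.algebra_section_stalk Y.presheaf _
  have h2 : IsLocalization.AtPrime (Y.presheaf.stalk (hU.fromSpec x)) P :=
    hU.isLocalization_stalk' x (hU.isoSpec.inv _).2
  have h3 := hY (hU.fromSpec x)
  let e : Localization P.primeCompl ≃ₐ[Γ(Y, U)] Y.presheaf.stalk (hU.fromSpec x) :=
    Localization.algEquiv P.primeCompl _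
  have h4 : IsDomain (Localization P.primeCompl) := inferInstance
  exact Function.Surjective.valuationRing e.symm.toRingEquiv.toRingHom e.symm.surjective

/-- In an integral scheme every nonzero section is invertible at the generic point. -/
theorem genericPoint_mem_basicOpen [IsIntegral Y] (U : Y.Opens) (a : Γ(Y, U)) (ha : a ≠ 0) :
    genericPoint Y ∈ Y.basicOpen a := by
  have h1 : (Y.basicOpen a : Set Y).Nonempty := by
    rw [Set.nonempty_iff_ne_empty]
    intro h
    apply ha
    rw [← basicOpen_eq_bot_iff]
    exact TopologicalSpace.Opens.ext h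
  exact ((genericPoint_spec Y).mem_open_set_iff (Y.basicOpen a).2).2 (by simpa using h1)

/-- The torsion criterion of flatness over `Y`. -/
theorem flat_iff_nonZeroDivisors [IsIntegral Y] (hY : ∀ y : Y, ValuationRing (Y.presheaf.stalk y))
    (f : X ⟶ Y) :
    Flat f ↔ ∀ (U : Y.affineOpens) (V : X.affineOpens) (e : V.1 ≤ f ⁻¹ᵁ U.1) (a : Γ(Y, U)) (b : Γ(X, V)),
      a ≠ 0 → f.appLE U V e a * b = 0 → b = 0 := by
  rw [HasRingHomProperty.iff_appLE (P := @Flat)]
  refine forall₃_congr fun U V e ↦ ?_
  by_cases hne : Nonempty U.1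
  · letI := (f.appLE U V e).hom.toAlgebra
    have h1 : (f.appLE U V e).hom.Flat ↔ Module.Flat Γ(Y, U) Γ(X, V) := Iff.rfl
    rw [h1, flat_iff hY U.1 U.2, Submodule.eq_bot_iff]
    constructor
    · intro h a b ha hab
      refine h b ?_
      rw [Submodule.mem_torsion_iff]
      exact ⟨⟨a, mem_nonZeroDivisors_of_ne_zero ha⟩, hab⟩
    · intro h b hb
      rw [Submodule.mem_torsion_iff] at hb
      obtain ⟨a, ha⟩ := hb
      exact h a.1 b (nonZeroDivisors.coe_ne_zero a) ha
  · have hU : U.1 = ⊥ := by
      ext x
      simp only [TopologicalSpace.Opens.coe_bot, Set.mem_empty_iff_false, iff_false]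
      exact fun hx ↦ hne ⟨⟨x, hx⟩⟩
    have hV : V.1 = ⊥ := by
      rw [eq_bot_iff]
      refine e.trans ?_
      rw [hU]
      rfl
    have : Subsingleton Γ(X, V) := by
      rw [hV]; infer_instance
    refine ⟨fun _ a b _ _ ↦ Subsingleton.elim _ _, fun _ ↦ ?_⟩
    letI := (f.appLE U V e).hom.toAlgebra
    change Module.Flat Γ(Y, U) Γ(X, V)
    infer_instance

end K260.DedFlat
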