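import Groth.Agent.Dual.H318.PureDim
import Groth.Agent.S1617
import Groth.Agent.VarietyB.DimTop

/-!
# Local rings at closed points of equidimensional schemes over a field
-/

set_option autoImplicit false
universe u

open CategoryTheory AlgebraicGeometry TopologicalSpace Topology

namespace K260.EquidimDim

/-- transport of "all irreducible components have dimension `d`" along a homeomorphism -/
theorem forall_dim_of_homeomorph {A B : Type*} [TopologicalSpace A] [TopologicalSpace B] (e : A ≃ₜ B)
    (d : WithBot ℕ∞) (h : ∀ Z ∈ irreducibleComponents A, topologicalKrullDim Z = d) :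
    ∀ Z ∈ irreducibleComponents B, topologicalKrullDim Z = d := by
  intro Z hZ
  have h1 : e ⁻¹' Z ∈ irreducibleComponents A := by
    apply preimage_mem_irreducibleComponents hZ e.isOpenEmbedding
    rw [e.surjective.range_eq, Set.inter_univ]
    exact hZ.1.nonempty
  rw [← h _ h1]
  have h2 : e '' (e ⁻¹' Z) = Z := Set.image_preimage_eq Z e.surjective
  have e1 : (e ⁻¹' Z : Set A) ≃ₜ (e '' (e ⁻¹' Z) : Set B) := e.image _
  rw [h2] at e1
  exact (e1.isHomeomorph.topologicalKrullDim_eq _).symm

variable {k : Type u} [Field k]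

theorem fiber_homeo {Z : Scheme.{u}} (p : Z ⟶ Spec (CommRingCat.of k)) (s : Spec (CommRingCat.of k)) :
    Nonempty (Z ≃ₜ p.fiber s) := by
  have h : p ⁻¹' {s} = Set.univ := by
    ext z
    simp only [Set.mem_preimage, Set.mem_singleton_iff, Set.mem_univ, iff_true]
    exact Subsingleton.elim (α := PrimeSpectrum k) _ _
  exact ⟨(Homeomorph.Set.univ Z).symm.trans ((Homeomorph.setCongr h.symm).trans (p.fiberHomeo s).symm)⟩

/-- local dimension of an equidimensional scheme over a field -/
theorem localDim_eq {Z : Scheme.{u}} (p : Z ⟶ Spec (CommRingCat.of k)) [LocallyOfFiniteType p] (d : ℕ)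
    (h : ∀ C ∈ irreducibleComponents (Z : Type u), topologicalKrullDim C = d) (z : Z) :
    FlatMor.localDim Z z = d := by
  let s : Spec (CommRingCat.of k) := p z
  obtain ⟨e⟩ := fiber_homeo p s
  rw [Groth.Agent.VarietyB.DimTop.localDim_eq_of_homeomorph e z]
  apply Groth.Agent.Dual.H318.PureDim.localDim_fiber_eq p d s
  exact forall_dim_of_homeomorph e _ h

/-- the local ring at a closed point of an equidimensional scheme over a field -/
theorem ringKrullDim_stalk_eq {Z : Scheme.{u}} (p : Z ⟶ Spec (CommRingCat.of k)) [LocallyOfFiniteType p] (d : ℕ)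
    (h : ∀ C ∈ irreducibleComponents (Z : Type u), topologicalKrullDim C = d) (z : Z)
    (hz : IsClosed ({z} : Set Z)) : ringKrullDim (Z.presheaf.stalk z) = d := by
  letI : Z.Over (Spec (CommRingCat.of k)) := ⟨p⟩
  have : LocallyOfFiniteType (Z ↘ Spec (CommRingCat.of k)) := ‹LocallyOfFiniteType p›
  rw [← Groth.Agent.S1617.result k Z z hz]
  exact localDim_eq p d h z

end K260.EquidimDim
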