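import Groth.Agent.Ega1.AmpFamNoeth
import Groth.Agent.Flat2C.SeparateClosed
import Groth.Agent.Flat2C.Glob
import Groth.Agent.Flat2C.CompData
import Groth.Agent.Flat2G.StratSpread
import Groth.Agent.S1694
import Groth.Agent.FlatMor.K260.Gen

/-!
# Admissible blow-ups with an ample family of invertible modules

* `exists_ample_blowUp`: blow-up with an ample family of a scheme covered by affine opens, the centre being the
  complement of the intersection of the members of the cover.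
* `exists_separate`: an admissible blow-up separating pairwise disjoint quasi-compact opens.
* `exists_dense_affine`: after an admissible blow-up every point has a dense affine open neighbourhood.
* `exists_admissible_ample`: S7197.
-/

set_option autoImplicit false
universe u

open CategoryTheory CategoryTheory.Limits AlgebraicGeometry TopologicalSpace Topology

namespace K260.AmpleBlow

open Groth.Agent

variable {X : Scheme.{u}}

theorem mem_support_prod {ι : Type*} (s : Finset ι) (I : ι → X.IdealSheafData) (x : X) :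
    x ∈ (∏ i ∈ s, I i).support ↔ ∃ i ∈ s, x ∈ (I i).support :=
  Ega1.AmpFamNoeth.mem_support_prod s I x

/-- Blowing up the union of the complements of the members of a finite affine cover gives a scheme with an ample
family. -/
theorem exists_ample_blowUp [CompactSpace X] [QuasiSeparatedSpace X] {m : ℕ} (U : Fin m → X.affineOpens)
    (hcov : ∀ x : X, ∃ i, x ∈ (U i).1) :
    ∃ (J : X.IdealSheafData) (Y : Scheme.{u}) (b : Y ⟶ X), BlowUp.IsFiniteTypeIdeal J ∧
      (∀ x, x ∈ J.support ↔ ∃ i, x ∉ (U i).1) ∧ BlowUp.IsBlowUp b J ∧ MoreMor.HasAmpleFamily Y := by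
  choose I hIft hIs using fun i => Flat2C.Admissible.exists_support_eq (U i).1 (U i).2.isCompact
  have hI : ∀ i x, x ∈ (I i).support ↔ x ∉ (U i).1 := by
    intro i x
    rw [← SetLike.mem_coe, hIs]
    rfl
  let J : X.IdealSheafData := ∏ i, I i
  have hJ : ∀ x, x ∈ J.support ↔ ∃ i, x ∉ (U i).1 := by
    intro x
    simp only [J, mem_support_prod, Finset.mem_univ, true_and, hI]
  obtain ⟨Y, b, hb⟩ := Groth.Agent.Flat2C.BlowExist.exists_isBlowUp J
  have hJft : BlowUp.IsFiniteTypeIdeal J := Flat2C.Glob.ft_prod _ _ fun i _ => hIft i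
  have hbp := Groth.Agent.Flat2C.BlowProper.isProper_of_isBlowUp hb hJft
  refine ⟨J, Y, b, hJft, hJ, hb, ?_⟩
  have hsupp : ∀ i (y : Y), y ∈ ((I i).comap b).support ↔ b y ∉ (U i).1 := by
    intro i y
    rw [← hI, Scheme.IdealSheafData.support_comap]
    rfl
  refine Groth.Agent.Flat2H.CartierAmple.hasAmpleFamily (fun i => (I i).comap b) ?_ ?_
    (fun _ => ClSub.idealMod (J.comap b)) ?_ ?_
  · intro i
    obtain ⟨K, hK⟩ := Finset.dvd_prod_of_mem I (Finset.mem_univ i)
    have h1 := hb.1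
    have h2 : J = I i * K := hK
    rw [h2, Groth.Agent.Divis.IdealComap.comap_mul] at h1
    exact Groth.Agent.Divis.BlowUpFormal.isEff_of_mul h1
  · rw [Set.eq_empty_iff_forall_notMem]
    intro y hy
    obtain ⟨i, hi⟩ := hcov (b y)
    rw [Set.mem_iInter] at hy
    exact (hsupp i y).mp (hy i) hi
  · intro i
    exact Groth.Agent.Ega1.IdealGen.isInvertible_idealMod _ hb.1
  · intro i
    refine Ega1.AmpFamBlow.isAmple_restrict hb (U i) _ ?_
    ext y
    change y ∉ ((I i).comap b).support ↔ b y ∈ (U i).1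
    rw [hsupp, not_not]

/-- topological input of `exists_separate` -/
theorem sep_top {T : Type*} [TopologicalSpace T] [QuasiSeparatedSpace T] {ι : Type*} [Finite ι] (V : ι → Set T)
    (hVo : ∀ i, IsOpen (V i)) (hV : ∀ i, IsCompact (V i)) (hd : Pairwise fun i j => Disjoint (V i) (V j))
    (U : Set T) (hU : U = ⋃ i, V i) (i : ι) :
    IsClosed (Subtype.val ⁻¹' V i : Set U) ∧ IsConstructible (Subtype.val ⁻¹' V i : Set U) ∧
      Subtype.val '' (Subtype.val ⁻¹' V i : Set U) = V i := by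
  have hle : ∀ i, V i ⊆ U := fun i => hU ▸ Set.subset_iUnion V i
  have hval : ∀ i, Subtype.val '' (Subtype.val ⁻¹' (V i : Set T) : Set U) = V i := by
    intro i
    rw [Subtype.image_preimage_coe]
    exact Set.inter_eq_right.mpr (hle i)
  refine ⟨?_, ?_, hval i⟩
  · have : (Subtype.val ⁻¹' V i : Set U) = (Subtype.val ⁻¹' (⋃ k : {k // k ≠ i}, V k.1))ᶜ := by
      ext x
      simp only [Set.mem_preimage, Set.mem_compl_iff, Set.mem_iUnion, not_exists]
      constructor
      · rintro hx ⟨k, hk⟩ hxk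
        exact Set.disjoint_left.mp (hd hk) hxk hx
      · intro hx
        obtain ⟨k, hk⟩ := Set.mem_iUnion.mp (hU.subset x.2)
        by_cases hki : k = i
        · exact hki ▸ hk
        · exact absurd hk (hx ⟨k, hki⟩)
    rw [this, isClosed_compl_iff]
    exact (isOpen_iUnion fun k => hVo _).preimage continuous_subtype_val
  · refine IsRetrocompact.isConstructible ((hVo i).preimage continuous_subtype_val) ?_
    intro s hs hso
    rw [Topology.IsEmbedding.subtypeVal.isCompact_iff, Set.image_inter Subtype.val_injective, hval]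
    have hUo : IsOpen U := hU ▸ isOpen_iUnion hVo
    exact (hV i).inter_of_isOpen (hs.image continuous_subtype_val) (hVo i) (hUo.isOpenMap_subtype_val _ hso)

/-- An admissible blow-up separating finitely many pairwise disjoint quasi-compact opens. -/
theorem exists_separate [CompactSpace X] [QuasiSeparatedSpace X] {ι : Type*} [Finite ι] (V : ι → X.Opens)
    (hV : ∀ i, IsCompact (V i : Set X)) (hd : Pairwise fun i j => Disjoint (V i : Set X) (V j : Set X)) :
    ∃ 𝓘 : X.IdealSheafData, BlowUp.IsAdmissibleFor (⨆ i, V i) 𝓘 ∧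
      ∀ (X' : Scheme.{u}) (b : X' ⟶ X), BlowUp.IsEffCartierIdeal (𝓘.comap b) →
        ∀ i j, i ≠ j → Disjoint (closure (b ⁻¹' (V i : Set X))) (closure (b ⁻¹' (V j : Set X))) := by
  classical
  cases nonempty_fintype ι
  have hUc : IsCompact ((⨆ i, V i : X.Opens) : Set X) := by
    rw [Opens.coe_iSup]
    exact isCompact_iUnion hV
  have htop := fun i => sep_top (fun i => (V i : Set X)) (fun i => (V i).2) hV hd ((⨆ i, V i : X.Opens) : Set X)
    (Opens.coe_iSup _) i
  have key : ∀ p : {p : ι × ι // p.1 ≠ p.2}, ∃ 𝓘 : X.IdealSheafData, BlowUp.IsAdmissibleFor (⨆ i, V i) 𝓘 ∧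
      ∀ (X' : Scheme.{u}) (b : X' ⟶ X), BlowUp.IsEffCartierIdeal (𝓘.comap b) →
        Disjoint (closure (b ⁻¹' (V p.1.1 : Set X))) (closure (b ⁻¹' (V p.1.2 : Set X))) := by
    rintro ⟨⟨i, j⟩, hij⟩
    obtain ⟨𝓘, h1, h2⟩ := Flat2C.SeparateClosed.exists_ideal_separating (⨆ i, V i) hUc _ _ (htop i).1 (htop j).1
      (htop i).2.1 (htop j).2.1 (Set.disjoint_left.mpr fun x hx hx' => Set.disjoint_left.mp (hd hij) hx hx')
    refine ⟨𝓘, h1, fun X' b hb => ?_⟩
    have h3 := h2 X' b hb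
    exact (congrArg₂ (fun A B => Disjoint (closure (b ⁻¹' A)) (closure (b ⁻¹' B)))
      (htop i).2.2 (htop j).2.2).mp h3
  choose K hK hK' using key
  refine ⟨∏ p, K p, ⟨Flat2C.Glob.ft_prod _ _ fun i _ => (hK i).1, ?_⟩, ?_⟩
  · rw [Set.disjoint_left]
    intro x hx
    rw [SetLike.mem_coe, mem_support_prod] at hx
    obtain ⟨p, -, hp⟩ := hx
    exact Set.disjoint_left.mp (hK p).2 hp
  · intro X' b hb i j hij
    refine hK' ⟨⟨i, j⟩, hij⟩ X' b ?_
    obtain ⟨L, hL⟩ := Finset.dvd_prod_of_mem K (Finset.mem_univ ⟨⟨i, j⟩, hij⟩)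
    rw [hL, Groth.Agent.Divis.IdealComap.comap_mul] at hb
    exact Groth.Agent.Divis.BlowUpFormal.isEff_of_mul hb

/-- pairwise disjoint quasi-compact (affine) irreducible opens with dense union -/
theorem exists_irreducible_affines (hirr : (irreducibleComponents X).Finite) :
    ∃ (A : irreducibleComponents X → X.affineOpens), (∀ Z, IsIrreducible ((A Z).1 : Set X)) ∧
      (Pairwise fun Z Z' => Disjoint ((A Z).1 : Set X) ((A Z').1 : Set X)) ∧
      Dense ((⨆ Z, (A Z).1 : X.Opens) : Set X) := by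
  have hfin : Finite (irreducibleComponents X) := hirr.to_subtype
  have hcl : ∀ Z : irreducibleComponents X, IsClosed Z.1 := fun Z => isClosed_of_mem_irreducibleComponents Z.1 Z.2
  let O : irreducibleComponents X → X.Opens := fun Z =>
    ⟨(⋃ Z' : {Z' // Z' ≠ Z}, Z'.1.1)ᶜ, (isClosed_iUnion_of_finite fun Z' : {Z' // Z' ≠ Z} => hcl Z'.1).isOpen_compl⟩
  have hO : ∀ Z x, x ∈ O Z ↔ ∀ Z', Z' ≠ Z → x ∉ Z'.1 := by
    intro Z x
    change x ∈ (⋃ Z' : {Z' // Z' ≠ Z}, Z'.1.1)ᶜ ↔ _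
    simp
  choose η hη1 hη2 using fun Z : irreducibleComponents X => K260.Gen.exists_isMax_of_mem Z.2
  have hηO : ∀ Z, η Z ∈ O Z := by
    intro Z
    rw [hO]
    intro Z' hne hmem
    apply hne
    have h1 : Z.1 ⊆ Z'.1 := by
      rw [← hη2 Z]
      exact (hcl Z').closure_subset_iff.mpr (Set.singleton_subset_iff.mpr hmem)
    exact Subtype.ext (Set.Subset.antisymm (Z.2.2 Z'.2.1 h1) h1)
  choose A hA hηA hAO using fun Z => exists_isAffineOpen_mem_and_subset (hηO Z)
  have hAZ : ∀ Z, (A Z : Set X) ⊆ Z.1 := by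
    intro Z x hx
    have h1 := irreducibleComponent_mem_irreducibleComponents x
    by_contra hxZ
    refine (hO Z x).mp (hAO Z hx) ⟨_, h1⟩ ?_ mem_irreducibleComponent
    rintro rfl
    exact hxZ mem_irreducibleComponent
  refine ⟨fun Z => ⟨A Z, hA Z⟩, ?_, ?_, ?_⟩
  · intro Z
    exact ⟨⟨η Z, hηA Z⟩, Z.2.1.2.open_subset (A Z).2 (hAZ Z)⟩
  · intro Z Z' hne
    rw [Set.disjoint_left]
    intro x hx hx'
    exact (hO Z' x).mp (hAO Z' hx') Z hne (hAZ Z hx)
  · intro x
    have h1 : η ⟨_, irreducibleComponent_mem_irreducibleComponents x⟩ ⤳ x := by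
      rw [specializes_iff_mem_closure, hη2]
      exact mem_irreducibleComponent
    refine closure_mono ?_ (specializes_iff_mem_closure.mp h1)
    rw [Set.singleton_subset_iff, SetLike.mem_coe, Opens.mem_iSup]
    exact ⟨_, hηA _⟩

/-- A dense open stays dense under a blow-up with centre off it. -/
theorem dense_preimage {X' : Scheme.{u}} {b : X' ⟶ X} {𝓘 : X.IdealSheafData} (hb : BlowUp.IsBlowUp b 𝓘)
    (V : X.Opens) (hV : Dense (V : Set X)) (hd : Disjoint (𝓘.support : Set X) (V : Set X)) :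
    Dense (b ⁻¹' (V : Set X)) := by
  have h1 := Flat2C.CompData.dense_compl_support hb.1
  let W : X.Opens := 𝓘.support.compl
  have hW : Disjoint (W : Set X) (𝓘.support : Set X) := disjoint_compl_left
  have hiso := Groth.Agent.Divis.BlowUpFormal.isIso_morphismRestrict_compl_support hb W hW
  have hop : IsOpenImmersion ((b ⁻¹ᵁ W).ι ≫ b) := by
    rw [← morphismRestrict_ι]; infer_instance
  rw [dense_iff_inter_open]
  intro N hN hNne
  have h2 : (((b ⁻¹ᵁ W).ι ≫ b) '' ((b ⁻¹ᵁ W).ι ⁻¹' N)).Nonempty := by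
    obtain ⟨x, hx, hxN⟩ := (dense_iff_inter_open.mp h1) N hN hNne
    have hxW : x ∈ b ⁻¹ᵁ W := by
      rw [Scheme.IdealSheafData.support_comap] at hxN
      exact hxN
    exact ⟨_, ⟨x, hxW⟩, hx, rfl⟩
  have h3 : IsOpen (((b ⁻¹ᵁ W).ι ≫ b) '' ((b ⁻¹ᵁ W).ι ⁻¹' N)) :=
    ((b ⁻¹ᵁ W).ι ≫ b).isOpenEmbedding.isOpenMap _ (hN.preimage (b ⁻¹ᵁ W).ι.continuous)
  obtain ⟨_, ⟨y, hy, rfl⟩, hyV⟩ := (dense_iff_inter_open.mp hV) _ h3 h2
  exact ⟨y.1, hy, hyV⟩

/-- the preimage of an irreducible open off the centre of a blow-up is irreducible -/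
theorem isIrreducible_preimage {X' : Scheme.{u}} {b : X' ⟶ X} {𝓘 : X.IdealSheafData} (hb : BlowUp.IsBlowUp b 𝓘)
    (V : X.Opens) (hV : IsIrreducible (V : Set X)) (hd : Disjoint (𝓘.support : Set X) (V : Set X)) :
    IsIrreducible (b ⁻¹' (V : Set X)) := by
  have hiso := Groth.Agent.Divis.BlowUpFormal.isIso_morphismRestrict_compl_support hb V hd.symm
  have h1 : (b ⁻¹' (V : Set X)) = (inv (b ∣_ V) ≫ (b ⁻¹ᵁ V).ι) '' Set.univ := by
    ext x
    constructor
    · intro hx
      refine ⟨(b ∣_ V) ⟨x, hx⟩, trivial, ?_⟩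
      rw [← Scheme.Hom.comp_apply, IsIso.hom_inv_id_assoc]
      rfl
    · rintro ⟨y, -, rfl⟩
      rw [Scheme.Hom.comp_apply]
      exact (inv (b ∣_ V) y).2
  rw [h1]
  refine IsIrreducible.image ?_ _ (inv (b ∣_ V) ≫ (b ⁻¹ᵁ V).ι).continuous.continuousOn
  have : IrreducibleSpace V := Subtype.irreducibleSpace hV
  exact IrreducibleSpace.isIrreducible_univ _

/-- After an admissible blow-up every point has a dense affine open neighbourhood. -/
theorem exists_dense_affine [CompactSpace X] [QuasiSeparatedSpace X] (hirr : (irreducibleComponents X).Finite) :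
    ∃ (V : X.Opens) (𝓘 : X.IdealSheafData) (X' : Scheme.{u}) (b : X' ⟶ X), IsCompact (V : Set X) ∧
      Dense (V : Set X) ∧ BlowUp.IsAdmissibleFor V 𝓘 ∧ BlowUp.IsBlowUp b 𝓘 ∧
      ∀ x : X', ∃ W : X'.affineOpens, x ∈ W.1 ∧ Dense (W.1 : Set X') := by
  classical
  have hfin : Finite (irreducibleComponents X) := hirr.to_subtype
  obtain ⟨A, hAi, hAd, hAdense⟩ := exists_irreducible_affines hirr
  have hVc : IsCompact ((⨆ Z, (A Z).1 : X.Opens) : Set X) := by
    rw [Opens.coe_iSup]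
    exact isCompact_iUnion fun Z => (A Z).2.isCompact
  obtain ⟨𝓘, hI, hsep⟩ := exists_separate (fun Z => (A Z).1) (fun Z => (A Z).2.isCompact) hAd
  obtain ⟨X', b, hb⟩ := Groth.Agent.Flat2C.BlowExist.exists_isBlowUp 𝓘
  refine ⟨_, 𝓘, X', b, hVc, hAdense, hI, hb, ?_⟩
  let C : irreducibleComponents X → Set X' := fun Z => closure (b ⁻¹' ((A Z).1 : Set X))
  have hCd : ∀ Z Z', Z ≠ Z' → Disjoint (C Z) (C Z') := hsep X' b hb.1
  have hle : ∀ Z, (A Z).1 ≤ ⨆ Z, (A Z).1 := fun Z => le_iSup (fun Z => (A Z).1) Z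
  have hCi : ∀ Z, IsIrreducible (C Z) := fun Z =>
    (isIrreducible_preimage hb (A Z).1 (hAi Z) (hI.2.mono_right (hle Z))).closure
  have hCu : ∀ x : X', ∃ Z, x ∈ C Z := by
    intro x
    have h1 := dense_preimage hb _ hAdense hI.2 x
    have h2 : b ⁻¹' ((⨆ Z, (A Z).1 : X.Opens) : Set X) = ⋃ Z, b ⁻¹' ((A Z).1 : Set X) := by
      rw [Opens.coe_iSup, Set.preimage_iUnion]
    rw [h2, closure_iUnion_of_finite] at h1
    exact Set.mem_iUnion.mp h1
  have hCo : ∀ Z, IsOpen (C Z) := by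
    intro Z
    have : C Z = (⋃ Z' : {Z' // Z' ≠ Z}, C Z'.1)ᶜ := by
      ext x
      simp only [Set.mem_compl_iff, Set.mem_iUnion, not_exists]
      constructor
      · rintro hx ⟨Z', hne⟩ hx'
        exact Set.disjoint_left.mp (hCd Z' Z hne) hx' hx
      · intro hx
        obtain ⟨Z', hZ'⟩ := hCu x
        by_cases h : Z' = Z
        · exact h ▸ hZ'
        · exact absurd hZ' (hx ⟨Z', h⟩)
    rw [this]
    exact (isClosed_iUnion_of_finite fun Z' : {Z' // Z' ≠ Z} => isClosed_closure).isOpen_compl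
  intro x
  obtain ⟨Z₀, hZ₀⟩ := hCu x
  have hpt : ∀ Z, ∃ y ∈ C Z, Z = Z₀ → y = x := by
    intro Z
    by_cases h : Z = Z₀
    · exact ⟨x, h ▸ hZ₀, fun _ => rfl⟩
    · obtain ⟨y, hy⟩ := (hCi Z).1
      exact ⟨y, hy, fun h' => absurd h' h⟩
  choose y hy hyx using hpt
  have haff : ∀ Z, ∃ N : X'.Opens, IsAffineOpen N ∧ y Z ∈ N ∧ (N : Set X') ⊆ C Z := by
    intro Z
    obtain ⟨N, hN, hyN, hNC⟩ := exists_isAffineOpen_mem_and_subset (U := ⟨C Z, hCo Z⟩) (hy Z)
    exact ⟨N, hN, hyN, hNC⟩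
  choose N hN hyN hNC using haff
  have hNd : Pairwise (Function.onFun Disjoint N) := by
    intro Z Z' hne
    rw [Function.onFun, ← Opens.coe_disjoint]
    exact (hCd Z Z' hne).mono (hNC Z) (hNC Z')
  refine ⟨⟨⨆ Z, N Z, IsAffineOpen.iSup_of_disjoint hN hNd⟩, ?_, ?_⟩
  · rw [Opens.mem_iSup]
    exact ⟨Z₀, by rw [← hyx Z₀ rfl]; exact hyN Z₀⟩
  · rw [dense_iff_inter_open]
    intro O hO hOne
    obtain ⟨z, hz⟩ := hOne
    obtain ⟨Z, hZ⟩ := hCu z
    obtain ⟨w, hwC, hwO, hwN⟩ := (hCi Z).2 O (N Z) hO (N Z).2 ⟨z, hZ, hz⟩ ⟨y Z, hy Z, hyN Z⟩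
    exact ⟨w, hwO, Opens.mem_iSup.mpr ⟨Z, hwN⟩⟩

/-- finitely many dense affine opens cover -/
theorem exists_fin_cover [CompactSpace X] (h : ∀ x : X, ∃ W : X.affineOpens, x ∈ W.1 ∧ Dense (W.1 : Set X)) :
    ∃ (m : ℕ) (U : Fin m → X.affineOpens), (∀ i, Dense ((U i).1 : Set X)) ∧ ∀ x : X, ∃ i, x ∈ (U i).1 := by
  classical
  choose W hxW hWd using h
  obtain ⟨t, ht⟩ := isCompact_univ.elim_finite_subcover (fun x : X => ((W x).1 : Set X)) (fun x => (W x).1.2)
    (fun x _ => Set.mem_iUnion.mpr ⟨x, hxW x⟩)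
  refine ⟨t.card, fun i => W (t.equivFin.symm i), fun i => hWd _, fun x => ?_⟩
  have := ht (Set.mem_univ x)
  simp only [Set.mem_iUnion] at this
  obtain ⟨y, hy, hxy⟩ := this
  exact ⟨t.equivFin ⟨y, hy⟩, by simpa using hxy⟩

/-- finite intersections of dense opens are dense -/
theorem dense_iInter_fin {T : Type*} [TopologicalSpace T] {m : ℕ} (U : Fin m → Set T) (ho : ∀ i, IsOpen (U i))
    (hd : ∀ i, Dense (U i)) : Dense (⋂ i, U i) ∧ IsOpen (⋂ i, U i) := by
  refine ⟨?_, isOpen_iInter_of_finite ho⟩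
  have key : ∀ s : Finset (Fin m), Dense (⋂ i ∈ s, U i) ∧ IsOpen (⋂ i ∈ s, U i) := by
    classical
    intro s
    induction s using Finset.induction_on with
    | empty => simp
    | insert a s _ ih =>
      rw [Finset.set_biInter_insert]
      exact ⟨(hd a).inter_of_isOpen_left ih.1 (ho a), (ho a).inter ih.2⟩
  simpa using (key Finset.univ).1

theorem exists_admissible_ample [CompactSpace X] [QuasiSeparatedSpace X]
    (hirr : (irreducibleComponents X).Finite) :
    ∃ (U : X.Opens) (𝓘 : X.IdealSheafData) (X' : Scheme.{u}) (b : X' ⟶ X),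
      IsCompact (U : Set X) ∧ Dense (U : Set X) ∧ BlowUp.IsAdmissibleFor U 𝓘 ∧ BlowUp.IsBlowUp b 𝓘 ∧
      MoreMor.HasAmpleFamily X' := by
  obtain ⟨V, 𝓘, X₁, b₁, hVc, hVd, hI, hb₁, hW⟩ := exists_dense_affine hirr
  have hb₁p := Groth.Agent.Flat2C.BlowProper.isProper_of_isBlowUp hb₁ hI.1
  have hc₁ : CompactSpace X₁ := QuasiCompact.compactSpace_of_compactSpace b₁
  have hq₁ : QuasiSeparatedSpace X₁ := quasiSeparatedSpace_of_quasiSeparated b₁
  obtain ⟨m, W, hWd, hWc⟩ := exists_fin_cover hW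
  obtain ⟨J, X₂, b₂, hJ, hJs, hb₂, hamp⟩ := exists_ample_blowUp W hWc
  obtain ⟨K, hK, hKs, hKb⟩ := S1694.result X 𝓘 hI.1 b₁ hb₁ J hJ b₂ hb₂
  have hdense : Dense ((K.support : Set X)ᶜ) := by
    have h1 : Dense ((J.support : Set X₁)ᶜ) := by
      have h2 : ((J.support : Set X₁)ᶜ) = ⋂ i, ((W i).1 : Set X₁) := by
        ext x
        simp only [Set.mem_compl_iff, SetLike.mem_coe, hJs, not_exists, not_not, Set.mem_iInter]
      rw [h2]
      exact (dense_iInter_fin _ (fun i => (W i).1.2) hWd).1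
    rw [dense_iff_inter_open]
    intro O hO hOne
    obtain ⟨x, hxO, hxV⟩ := (dense_iff_inter_open.mp hVd) O hO hOne
    -- work inside `V`
    have hiso := Groth.Agent.Divis.BlowUpFormal.isIso_morphismRestrict_compl_support hb₁ V hI.2.symm
    have hne : (b₁ ⁻¹' (O ∩ V)).Nonempty := by
      refine ⟨(inv (b₁ ∣_ V) ⟨x, hxV⟩).1, ?_⟩
      have h3 : b₁ (inv (b₁ ∣_ V) ⟨x, hxV⟩).1 = x := by
        have h4 := congr($(morphismRestrict_ι b₁ V) (inv (b₁ ∣_ V) ⟨x, hxV⟩))
        rw [Scheme.Hom.comp_apply, Scheme.Hom.comp_apply, ← Scheme.Hom.comp_apply (inv _), IsIso.inv_hom_id] at h4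
        exact h4.symm
      change b₁ (inv (b₁ ∣_ V) ⟨x, hxV⟩).1 ∈ O ∩ V
      rw [h3]
      exact ⟨hxO, hxV⟩
    obtain ⟨y, ⟨hyO, hyV⟩, hyJ⟩ := (dense_iff_inter_open.mp h1) _
      ((hO.inter V.2).preimage b₁.continuous) hne
    refine ⟨b₁ y, hyO, ?_⟩
    rw [hKs]
    rintro (h | ⟨y', hy', he⟩)
    · exact Set.disjoint_left.mp hI.2 h hyV
    · have hy'V : b₁ y' ∈ V := by
        have he' : b₁ y' = b₁ y := he
        rw [he']; exact hyV
      have h5 : (⟨y', hy'V⟩ : (b₁ ⁻¹ᵁ V : X₁.Opens)) = ⟨y, hyV⟩ := by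
        apply (b₁ ∣_ V).homeomorph.injective
        apply V.ι.isOpenEmbedding.injective
        change (b₁ ∣_ V ≫ V.ι) _ = (b₁ ∣_ V ≫ V.ι) _
        rw [morphismRestrict_ι]
        exact he
      have h6 : y' = y := congrArg Subtype.val h5
      exact hyJ (h6 ▸ hy')
  refine ⟨K.support.compl, K, X₂, b₂ ≫ b₁, Flat2G.StratSpread.isCompact_support_compl K hK, hdense,
    ⟨hK, disjoint_compl_right⟩, hKb, hamp⟩

end K260.AmpleBlow
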