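import Mathlib.AlgebraicGeometry.Morphisms.Flat
import Mathlib.AlgebraicGeometry.Morphisms.Separated
import Mathlib.AlgebraicGeometry.Morphisms.UniversallyOpen
import Mathlib.AlgebraicGeometry.FunctionField
import Mathlib.RingTheory.RingHom.FaithfullyFlat

/-!
# Flat separated birational surjective morphisms of integral schemes
-/

set_option autoImplicit false
universe u

open CategoryTheory AlgebraicGeometry TopologicalSpace

namespace K260.BiratFlat

/-- A faithfully flat map of domains with every element of the target a fraction of elements of the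
source is bijective. -/
theorem bijective_of_faithfullyFlat {A B : Type u} [CommRing A] [CommRing B] [IsDomain B]
    (φ : A →+* B) (hφ : φ.FaithfullyFlat) (h : ∀ b : B, ∃ a s : A, s ≠ 0 ∧ φ s * b = φ a) :
    Function.Bijective φ := by
  have hinj : Function.Injective φ := hφ.injective
  refine ⟨hinj, fun b ↦ ?_⟩
  obtain ⟨a, s, hs, hab⟩ := h b
  letI := φ.toAlgebra
  have hff : Module.FaithfullyFlat A B := hφ
  have h1 : a ∈ ((Ideal.span {s}).map (algebraMap A B)).comap (algebraMap A B) := by
    rw [Ideal.mem_comap, Ideal.map_span, Set.image_singleton, Ideal.mem_span_singleton]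
    exact ⟨b, hab.symm⟩
  rw [Ideal.comap_map_eq_self_of_faithfullyFlat, Ideal.mem_span_singleton] at h1
  obtain ⟨c, rfl⟩ := h1
  refine ⟨c, ?_⟩
  have h2 : φ s ≠ 0 := by
    rw [Ne, map_eq_zero_iff φ hinj]; exact hs
  rw [map_mul] at hab
  exact (mul_left_cancel₀ h2 hab).symm

variable {X Y : Scheme.{u}}

/-- fractions in the function field, for a point equal to the generic point -/
theorem exists_frac [IsIntegral Y] (y p : Y) (hp : p = genericPoint Y) (h : p ⤳ y)
    (z : Y.presheaf.stalk p) : ∃ a s : Y.presheaf.stalk y, s ≠ 0 ∧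
      Y.presheaf.stalkSpecializes h s * z = Y.presheaf.stalkSpecializes h a := by
  subst hp
  have : IsFractionRing (Y.presheaf.stalk y) Y.functionField := inferInstance
  obtain ⟨⟨a, s⟩, has⟩ := IsLocalization.surj (M := nonZeroDivisors (Y.presheaf.stalk y))
    (S := Y.functionField) z
  refine ⟨a, s, nonZeroDivisors.coe_ne_zero s, ?_⟩
  rw [mul_comm]
  exact has

theorem stalkSpecializes_injective [IsIntegral Y] (y : Y) (h : genericPoint Y ⤳ y) :
    Function.Injective (Y.presheaf.stalkSpecializes h) := by
  have : IsFractionRing (Y.presheaf.stalk y) Y.functionField := inferInstance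
  exact IsFractionRing.injective (Y.presheaf.stalk y) Y.functionField

/-- the image of the generic point under a flat map -/
theorem map_genericPoint [IsIntegral X] [IsIntegral Y] (f : X ⟶ Y) [Flat f] :
    f (genericPoint X) = genericPoint Y := by
  obtain ⟨x, hx, hx'⟩ := Flat.generalizingMap f (genericPoint_specializes (f (genericPoint X)))
  rw [← hx', (hx.antisymm (genericPoint_specializes x)).eq]

/-- A flat morphism of integral schemes inducing an isomorphism of function fields induces
isomorphisms of local rings. -/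
theorem isIso_stalkMap [IsIntegral X] [IsIntegral Y] (f : X ⟶ Y) [Flat f]
    (hK : IsIso (f.stalkMap (genericPoint X))) (x : X) : IsIso (f.stalkMap x) := by
  rw [ConcreteCategory.isIso_iff_bijective]
  have hflat := Flat.stalkMap f x
  have hff : (f.stalkMap x).hom.FaithfullyFlat := by
    letI := (f.stalkMap x).hom.toAlgebra
    have : Module.Flat (Y.presheaf.stalk (f x)) (X.presheaf.stalk x) := hflat
    have : IsLocalHom (algebraMap (Y.presheaf.stalk (f x)) (X.presheaf.stalk x)) :=
      inferInstanceAs (IsLocalHom (f.stalkMap x).hom)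
    exact Module.FaithfullyFlat.of_flat_of_isLocalHom
  apply bijective_of_faithfullyFlat _ hff
  intro b
  have hsp : genericPoint X ⤳ x := genericPoint_specializes x
  obtain ⟨z, hz⟩ := (ConcreteCategory.bijective_of_isIso (f.stalkMap (genericPoint X))).2
    (X.presheaf.stalkSpecializes hsp b)
  obtain ⟨a, s, hs, has⟩ := exists_frac (f x) (f (genericPoint X)) (map_genericPoint f)
    (f.base.hom.map_specializes hsp) z
  refine ⟨a, s, hs, ?_⟩
  apply stalkSpecializes_injective x hsp
  have h1 := Scheme.Hom.stalkSpecializes_stalkMap_apply f _ _ hsp s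
  have h2 := Scheme.Hom.stalkSpecializes_stalkMap_apply f _ _ hsp a
  have h3 := congrArg (f.stalkMap (genericPoint X)) has
  rw [map_mul, h1, h2, hz] at h3
  rw [map_mul]
  exact h3

/-- Injectivity. -/
theorem injective [IsIntegral X] [IsIntegral Y] (f : X ⟶ Y) [Flat f] [IsSeparated f]
    (hK : IsIso (f.stalkMap (genericPoint X))) : Function.Injective f := by
  intro x₁ x₂ h
  have i1 := isIso_stalkMap f hK x₁
  have i2 := isIso_stalkMap f hK x₂
  have hs : f x₁ ⤳ f x₂ := by rw [h]
  have hs' : f x₂ ⤳ f x₁ := by rw [h]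
  have hsI : IsIso (Y.presheaf.stalkSpecializes hs) := by
    have : Y.presheaf.stalkSpecializes hs = (Y.presheaf.stalkCongr (.of_eq h.symm)).hom := rfl
    rw [this]; infer_instance
  let ψ : X.presheaf.stalk x₂ ⟶ X.presheaf.stalk x₁ :=
    inv (f.stalkMap x₂) ≫ Y.presheaf.stalkSpecializes hs ≫ f.stalkMap x₁
  have hψ : f.stalkMap x₂ ≫ ψ = Y.presheaf.stalkSpecializes hs ≫ f.stalkMap x₁ := by simp [ψ]
  have g1 : genericPoint X ⤳ x₁ := genericPoint_specializes x₁
  have g2 : genericPoint X ⤳ x₂ := genericPoint_specializes x₂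
  have hψ2 : ψ ≫ X.presheaf.stalkSpecializes g1 = X.presheaf.stalkSpecializes g2 := by
    rw [← cancel_epi (f.stalkMap x₂), reassoc_of% hψ, ← Scheme.Hom.stalkSpecializes_stalkMap,
      ← Scheme.Hom.stalkSpecializes_stalkMap, TopCat.Presheaf.stalkSpecializes_comp_assoc]
  have hc : X.fromSpecStalk x₁ = Spec.map ψ ≫ X.fromSpecStalk x₂ := by
    have : IsDominant (Spec.map (X.presheaf.stalkSpecializes g1)) := by
      rw [isDominant_iff]
      exact PrimeSpectrum.denseRange_comap_iff_ker_le_nilRadical _ |>.2 (by
        have := (RingHom.injective_iff_ker_eq_bot _).1 (stalkSpecializes_injective x₁ g1)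
        rw [this]; exact bot_le)
    refine ext_of_isDominant_of_isSeparated f ?_ (Spec.map (X.presheaf.stalkSpecializes g1)) ?_
    · rw [← Scheme.SpecMap_stalkMap_fromSpecStalk, Category.assoc,
        ← Scheme.SpecMap_stalkMap_fromSpecStalk, ← Spec.map_comp_assoc, hψ, Spec.map_comp_assoc,
        Scheme.SpecMap_stalkSpecializes_fromSpecStalk]
    · rw [← Spec.map_comp_assoc, hψ2, Scheme.SpecMap_stalkSpecializes_fromSpecStalk,
        Scheme.SpecMap_stalkSpecializes_fromSpecStalk]
  have hloc : IsLocalHom ψ.hom := by
    have : IsIso ψ := inferInstance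
    infer_instance
  have h3 := congrArg (fun g : Spec (X.presheaf.stalk x₁) ⟶ X ↦ g (IsLocalRing.closedPoint _)) hc
  simp only [Scheme.fromSpecStalk_closedPoint, Scheme.Hom.comp_apply] at h3
  rw [h3]
  have h4 : (Spec.map ψ) (IsLocalRing.closedPoint (X.presheaf.stalk x₁)) =
      IsLocalRing.closedPoint (X.presheaf.stalk x₂) :=
    IsLocalRing.comap_closedPoint ψ.hom
  rw [h4, Scheme.fromSpecStalk_closedPoint]

/-- A flat separated surjective birational morphism which is a quotient map is an isomorphism. -/
theorem isIso_of_isQuotientMap [IsIntegral X] [IsIntegral Y] (f : X ⟶ Y) [Flat f] [IsSeparated f]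
    (hK : IsIso (f.stalkMap (genericPoint X))) (hq : Topology.IsQuotientMap f) : IsIso f := by
  have hinj := injective f hK
  have hst := isIso_stalkMap f hK
  have hhom : IsHomeomorph f := by
    refine ⟨f.continuous, fun U hU ↦ ?_, hinj, hq.surjective⟩
    rw [← hq.isOpen_preimage, Set.preimage_image_eq _ hinj]
    exact hU
  have : IsOpenImmersion f := .of_isIso_stalkMap f hhom.isOpenEmbedding
  have hs : Function.Surjective f := hq.surjective
  have hs' : Surjective f := ⟨hs⟩
  have : Epi f.base := (TopCat.epi_iff_surjective _).2 hs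
  exact IsOpenImmersion.isIso f

end K260.BiratFlat
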