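import Groth.Agent.PerfC.PullKFlat
import Groth.Agent.PerfC.ClosedImmPc
import Groth.Agent.PerfC.PullRestrict
import Groth.Agent.Dcoh.DerPull2
import Groth.Agent.Sga2lef.H24.ClosedHyp
import Groth.Agent.CohqA.AffineBaseChange
import Groth.Agent.LoccohB.ClosGeom704
import Groth.Agent.S0910
import Groth.Agent.S0959
import Groth.Agent.S0591
import Groth.Agent.Dual.H337.CohR
import Groth.Agent.FlatA.CompactifApprox
import Groth.Agent.Flat2D.SpecFGLimit
import Groth.Agent.CohqB.ProjBC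
import Groth.Agent.PerfB.StructFlat

/-!
# The derived Chow lemma

* `exists_model`: a separated scheme of finite presentation over a ring is the base change of such a scheme over
  a Noetherian ring.
* `restr`: a property stable under base change of the restriction of a base change over an open.
* `isZero_restrict`, `nonempty_restrict`: the derived pullback of `i_* O_Z` vanishes off `Z`, and is the pullback of
  `i_* O_Z` over the opens over which everything is flat over the base.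
-/

set_option autoImplicit false
universe u
open CategoryTheory CategoryTheory.Limits AlgebraicGeometry
attribute [local instance] HasDerivedCategory.standard

namespace K260.DerChow

open Groth.Agent

section Model

open FlatA.CompactifBasic FlatA.CompactifApprox Ega43.LimitDescend Flat2D.SpecFGLimit

/-- Over a locally Noetherian base finite type implies finite presentation. -/
theorem lfp_of_noeth {Z S : Scheme.{u}} (f : Z ⟶ S)
    [IsLocallyNoetherian S] [LocallyOfFiniteType f] : LocallyOfFinitePresentation f := by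
  rw [HasRingHomProperty.iff_appLE (P := @LocallyOfFinitePresentation)]
  intro U V e
  have := IsLocallyNoetherian.component_noetherian U
  have h := f.finiteType_appLE U.2 V.2 e
  algebraize [(f.appLE U V e).hom]
  exact RingHom.finitePresentation_algebraMap.mpr (Algebra.FinitePresentation.of_finiteType.mp ‹_›)

/-- A separated scheme of finite presentation over `A` is the base change of a separated scheme of finite
type over a Noetherian ring. -/
theorem exists_model (A : Type u) [CommRing A] {X : Scheme.{u}}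
    (f : X ⟶ Spec (CommRingCat.of A)) [LocallyOfFinitePresentation f] [QuasiCompact f] [IsSeparated f] :
    ∃ (Λ : Type u) (_ : CommRing Λ) (_ : IsNoetherianRing Λ) (l : Λ →+* A) (X₀ : Scheme.{u})
      (f₀ : X₀ ⟶ Spec (CommRingCat.of Λ)) (u : X ⟶ X₀), IsSeparated f₀ ∧ LocallyOfFiniteType f₀ ∧
      QuasiCompact f₀ ∧ IsPullback u f f₀ (Spec.map (CommRingCat.ofHom l)) := by
  have i1 : ∀ i, CompactSpace ((specDiagram A).obj i) := fun i => inferInstance
  have i2 : ∀ i, QuasiSeparatedSpace ((specDiagram A).obj i) := fun i => inferInstance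
  have i3 : LocallyOfFinitePresentation (Y := (specCone A).pt) f := ‹_›
  have i4 : QuasiCompact (Y := (specCone A).pt) f := ‹_›
  have i5 : QuasiSeparated (Y := (specCone A).pt) f := (inferInstance : QuasiSeparated f)
  obtain ⟨i, Xi, fi, g, h5, h6, h7, hpb⟩ := Groth.Agent.S0591.result (specDiagram A) (specCone A)
    (isLimitSpecCone A) X f
  let D := specDiagram A
  let c := specCone A
  let hc := isLimitSpecCone A
  let E := Over.forget i ⋙ D
  let t : ∀ j : Over i, E.obj j ⟶ D.obj i := fun j ↦ D.map j.hom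
  have ht : ∀ {i' j : Over i} (φ : i' ⟶ j), E.map φ ≫ t j = t i' :=
    fun φ ↦ overT_w D i φ
  have hp : ∀ j, (overCone c i).π.app j ≫ t j = c.π.app i := fun j ↦ c.w j.hom
  have hcompE (j : Over i) : CompactSpace (E.obj j) := i1 j.left
  have hqsE (j : Over i) : QuasiSeparatedSpace (E.obj j) := i2 j.left
  have haffE {j k : Over i} (φ : j ⟶ k) : IsAffineHom (E.map φ) := inferInstanceAs (IsAffineHom (D.map _))
  obtain ⟨k, hk⟩ := descendsLim_isSeparated E (overCone c i) (isLimitOverCone c hc i) t ht fi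
    (c.π.app i) hp g f hpb (inferInstanceAs (IsSeparated f))
  have hpb2 := isPullback_pbCone t ht fi (overCone c i) (c.π.app i) hp g f hpb k
  let Λ := k.left.unop.1
  have hqc : QuasiCompact (pullback.snd fi (t k)) := inferInstance
  have hlft : LocallyOfFiniteType (pullback.snd fi (t k)) := by
    have : LocallyOfFinitePresentation (pullback.snd fi (t k)) := inferInstance
    infer_instance
  exact ⟨Λ, inferInstance, inferInstanceAs (IsNoetherianRing k.left.unop.1), Λ.val.toRingHom,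
    pullback fi (t k), pullback.snd fi (t k),
    (pbCone t ht fi (overCone c i) (c.π.app i) hp g f hpb).π.app k, hk, hlft, hqc, hpb2⟩

end Model

section Restr

/-- A property stable under base change, for the restriction over an open of a base change. -/
theorem restr {Z Z₀ X X₀ U₀ O₀ : Scheme.{u}} {w : Z ⟶ Z₀} {b : Z ⟶ X} {b₀ : Z₀ ⟶ X₀} {u : X ⟶ X₀}
    (H : IsPullback w b b₀ u) {j₀ : U₀ ⟶ Z₀} {c₀ : U₀ ⟶ O₀} {o : O₀ ⟶ X₀} [IsOpenImmersion o]
    [IsOpenImmersion j₀] (H₀ : IsPullback j₀ c₀ b₀ o) (P : MorphismProperty Scheme.{u})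
    [P.IsStableUnderBaseChange] (hc : P c₀) :
    P (b ∣_ (u ⁻¹ᵁ o.opensRange)) ∧ b ⁻¹ᵁ (u ⁻¹ᵁ o.opensRange) = w ⁻¹ᵁ j₀.opensRange := by
  constructor
  · have h1 := (isPullback_morphismRestrict b (u ⁻¹ᵁ o.opensRange)).paste_vert H.flip
    have hr : Set.range ((u ⁻¹ᵁ o.opensRange).ι ≫ u) ⊆ Set.range o := by
      rintro _ ⟨y, rfl⟩
      exact y.2
    let t : (u ⁻¹ᵁ o.opensRange).toScheme ⟶ O₀ := IsOpenImmersion.lift o ((u ⁻¹ᵁ o.opensRange).ι ≫ u) hr
    have ht : t ≫ o = (u ⁻¹ᵁ o.opensRange).ι ≫ u := IsOpenImmersion.lift_fac _ _ _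
    rw [← ht] at h1
    let r : (b ⁻¹ᵁ (u ⁻¹ᵁ o.opensRange)).toScheme ⟶ U₀ :=
      H₀.lift ((b ⁻¹ᵁ (u ⁻¹ᵁ o.opensRange)).ι ≫ w) ((b ∣_ (u ⁻¹ᵁ o.opensRange)) ≫ t) (by
        rw [Category.assoc _ t o]; exact h1.w.symm)
    have hr1 : r ≫ j₀ = (b ⁻¹ᵁ (u ⁻¹ᵁ o.opensRange)).ι ≫ w := H₀.lift_fst _ _ _
    have hr2 : r ≫ c₀ = (b ∣_ (u ⁻¹ᵁ o.opensRange)) ≫ t := H₀.lift_snd _ _ _
    rw [← hr1] at h1
    have h2 : IsPullback (b ∣_ (u ⁻¹ᵁ o.opensRange)) r t c₀ := IsPullback.of_bot h1 hr2.symm H₀.flip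
    exact MorphismProperty.of_isPullback h2.flip hc
  · have h2 : b₀ ⁻¹ᵁ o.opensRange = j₀.opensRange := by
      ext z
      constructor
      · rintro ⟨y, hy⟩
        obtain ⟨a, ha, -⟩ := Scheme.exists_preimage_of_isPullback H₀ z y hy.symm
        exact ⟨a, ha⟩
      · rintro ⟨a, rfl⟩
        exact ⟨c₀ a, by rw [← Scheme.Hom.comp_apply, ← Scheme.Hom.comp_apply, H₀.w]⟩
    rw [← h2, ← Scheme.Hom.comp_preimage, ← Scheme.Hom.comp_preimage, H.w]

end Restr

section Derived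

open Groth.Agent.PerfC.RelFlatLpull

/-- The restriction over an open of the source of the base. -/
theorem isPullback_restrict_base {P P₀ X X₀ : Scheme.{u}} {q : P ⟶ P₀} {p : P ⟶ X} {p₀ : P₀ ⟶ X₀}
    {u : X ⟶ X₀} (H : IsPullback q p p₀ u) (W₀ : P₀.Opens) :
    IsPullback (q ∣_ W₀) ((q ⁻¹ᵁ W₀).ι ≫ p) (W₀.ι ≫ p₀) u :=
  (isPullback_morphismRestrict q W₀).flip.flip.paste_vert H

/-- `Lf^*` is additive. -/
theorem additive_lpull {X Y : Scheme.{u}} (f : X ⟶ Y) [DCoh.HasLpull f] : (DCoh.Lpull f).Additive := by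
  let _ := Dcoh.DerPull.lpullCommShift f
  have := Dcoh.DerPull.lpull_isTriangulated f
  infer_instance

/-- The restriction of `i_* O_Z` to the complement of `Z` is zero. -/
theorem isZero_push_restrict {Z₀ P₀ : Scheme.{u}} (i₀ : Z₀ ⟶ P₀) [IsClosedImmersion i₀] (W₀ : P₀.Opens)
    (hW : Disjoint (W₀ : Set P₀) (Set.range i₀)) (M : Z₀.Modules) :
    IsZero (((Scheme.Modules.pushforward i₀).obj M).restrict W₀.ι) := by
  rw [PerfA.Restrict.isZero_iff_stalk]
  intro x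
  refine IsZero.of_iso ?_ ((PerfA.Restrict.stalkRestrict W₀.ι x).app _)
  have : Subsingleton ((PerfA.Restrict.stalkAb (W₀.ι x)).obj ((Scheme.Modules.pushforward i₀).obj M)) :=
    Sga2lef.H24.ClosedHyp.subsingleton_stalk_push' i₀ M (W₀.ι x)
      (fun h => Set.disjoint_left.1 hW x.2 h)
  exact AddCommGrpCat.isZero_of_subsingleton _

/-- The derived pullback of `i_* O_Z` vanishes off `Z`. -/
theorem isZero_restrict {P P₀ Z₀ : Scheme.{u}} {q : P ⟶ P₀} {i₀ : Z₀ ⟶ P₀} [IsClosedImmersion i₀]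
    [DCoh.HasLpull q] (W : P.Opens) (hW : Disjoint (W : Set P) (q ⁻¹' Set.range i₀))
    (F : CochainComplex P.Modules ℤ) (M : Z₀.Modules)
    (e : DerivedCategory.Q.obj F ≅ (DCoh.Lpull q).obj
      (DCoh.inD P₀ ((Scheme.Modules.pushforward i₀).obj M))) :
    IsZero (DerivedCategory.Q.obj ((DCoh.restrictCx W).obj F)) := by
  let W₀ : P₀.Opens := ⟨(Set.range i₀)ᶜ, i₀.isClosedEmbedding.isClosed_range.isOpen_compl⟩
  have hr : Set.range (W.ι ≫ q) ⊆ Set.range W₀.ι := by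
    rintro _ ⟨y, rfl⟩
    rw [Scheme.Opens.range_ι]
    intro h
    exact Set.disjoint_left.1 hW y.2 h
  let q' : W.toScheme ⟶ W₀ := IsOpenImmersion.lift W₀.ι (W.ι ≫ q) hr
  have hq' : q' ≫ W₀.ι = W.ι ≫ q := IsOpenImmersion.lift_fac _ _ _
  have := Groth.Agent.S0959.result q'
  let e1 : DerivedCategory.Q.obj ((DCoh.restrictCx W).obj F) ≅
      (DCoh.restrictD W.ι).obj (DerivedCategory.Q.obj F) := (Dcoh.LocalD.QRestrict W.ι F).symm
  let e2 := (DCoh.restrictD W.ι).mapIso e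
  let e3 := (Dcoh.DerPull.lpullRestrictIso hq'.symm).app
    (DCoh.inD P₀ ((Scheme.Modules.pushforward i₀).obj M))
  let e4 := (DCoh.Lpull q').mapIso (PerfA.PerfLocal.restrictInD W₀.ι ((Scheme.Modules.pushforward i₀).obj M))
  have := additive_lpull q'
  refine IsZero.of_iso ?_ (e1 ≪≫ e2 ≪≫ e3 ≪≫ e4)
  apply Functor.map_isZero
  apply Functor.map_isZero
  exact isZero_push_restrict i₀ W₀ (Set.disjoint_compl_left_iff_subset.2 subset_rfl) M

/-- The derived pullback of `i_* O_Z` over an open over which `Z` is flat over the base. -/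
theorem nonempty_restrict {P P₀ X X₀ Z Z₀ : Scheme.{u}} {q : P ⟶ P₀} {p : P ⟶ X} {p₀ : P₀ ⟶ X₀}
    {u : X ⟶ X₀} (H : IsPullback q p p₀ u) {i₀ : Z₀ ⟶ P₀} [IsClosedImmersion i₀] {i : Z ⟶ P} {w : Z ⟶ Z₀}
    (H' : IsPullback w i i₀ q) (W₀ : P₀.Opens) [Flat (W₀.ι ≫ p₀)] [Flat ((i₀ ⁻¹ᵁ W₀).ι ≫ i₀ ≫ p₀)]
    (W : P.Opens) (hW : W = q ⁻¹ᵁ W₀) [DCoh.HasLpull q] (F : CochainComplex P.Modules ℤ)
    (e : DerivedCategory.Q.obj F ≅ (DCoh.Lpull q).obj
      (DCoh.inD P₀ ((Scheme.Modules.pushforward i₀).obj (Coh.structureModule Z₀)))) :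
    Nonempty (DerivedCategory.Q.obj ((DCoh.restrictCx W).obj F) ≅
      DerivedCategory.Q.obj ((DCoh.restrictCx W).obj ((CochainComplex.singleFunctor P.Modules 0).obj
        ((Scheme.Modules.pushforward i).obj (Coh.structureModule Z))))) := by
  subst hW
  have := Groth.Agent.S0959.result (q ∣_ W₀)
  set M₀ := (Scheme.Modules.pushforward i₀).obj (Coh.structureModule Z₀) with hM₀
  have HW : IsPullback (q ∣_ W₀) ((q ⁻¹ᵁ W₀).ι ≫ p) (W₀.ι ≫ p₀) u :=
    isPullback_restrict_base H W₀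
  have hfl : FlatMod.IsFlatOver (W₀.ι ≫ p₀) (M₀.restrict W₀.ι) := by
    have h1 : FlatMod.IsFlatOver ((i₀ ∣_ W₀) ≫ W₀.ι ≫ p₀)
        (Coh.structureModule (i₀ ⁻¹ᵁ W₀ : Z₀.Opens).toScheme) := by
      have : Flat ((i₀ ∣_ W₀) ≫ W₀.ι ≫ p₀) := by
        rw [← Category.assoc, morphismRestrict_ι, Category.assoc]
        infer_instance
      exact PerfB.StructFlat.isFlatOver_structure _
    have h2 := Sga2lef.H24.ClosedHyp.isFlatOver_push (i₀ ∣_ W₀) (W₀.ι ≫ p₀) _ h1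
    exact PerfC.RelFlat.isFlatOver_of_iso _ (((PerfC.PushRestrict.pushforwardRestrictIso i₀ W₀).app _ ≪≫
      (Scheme.Modules.pushforward (i₀ ∣_ W₀)).mapIso (Scheme.Modules.restrictUnitIso _)).symm) h2
  let N₀ := (CochainComplex.singleFunctor W₀.toScheme.Modules 0).obj (M₀.restrict W₀.ι)
  have hb : ∀ i, 0 < i → IsZero (N₀.X i) := fun i hi =>
    HomologicalComplex.isZero_single_obj_X _ _ _ _ hi.ne'
  have hN : ∀ i, FlatMod.IsFlatOver (W₀.ι ≫ p₀) (N₀.X i) := by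
    intro i
    by_cases hi : i = 0
    · subst hi
      exact PerfC.RelFlat.isFlatOver_of_iso _
        (HomologicalComplex.singleObjXSelf (ComplexShape.up ℤ) 0 (M₀.restrict W₀.ι)).symm hfl
    · exact PerfC.RelFlat.isFlatOver_of_isFlat _ (Dcoh.FlatRes.isFlat_of_isZero
        (HomologicalComplex.isZero_single_obj_X _ _ _ _ hi))
  have hqc : Coh.IsQCoh (Coh.structureModule Z₀) := PerfA.QCohSerre.isQCoh_unit Z₀
  obtain ⟨a⟩ := CohqA.AffineBaseChange.nonempty_iso H' (Coh.structureModule Z₀)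
  let e1 : DerivedCategory.Q.obj ((DCoh.restrictCx (q ⁻¹ᵁ W₀)).obj F) ≅
      (DCoh.restrictD (q ⁻¹ᵁ W₀).ι).obj (DerivedCategory.Q.obj F) :=
    (Dcoh.LocalD.QRestrict (q ⁻¹ᵁ W₀).ι F).symm
  let e2 := (DCoh.restrictD (q ⁻¹ᵁ W₀).ι).mapIso e
  let e3 := (Dcoh.DerPull.lpullRestrictIso (j' := (q ⁻¹ᵁ W₀).ι) (j := W₀.ι) (f := q) (f' := q ∣_ W₀)
    (morphismRestrict_ι q W₀).symm).app (DCoh.inD P₀ M₀)
  let e4 := (DCoh.Lpull (q ∣_ W₀)).mapIso (PerfA.PerfLocal.restrictInD W₀.ι M₀ ≪≫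
    (DerivedCategory.singleFunctorIsoCompQ _ 0).app _)
  let e5 := lpullRelIso (PerfC.PullKFlat.pullData (q ∣_ W₀)) HW N₀ 0 hb hN
  let e6 := DerivedCategory.Q.mapIso ((HomologicalComplex.singleMapHomologicalComplex
    (Scheme.Modules.pullback (q ∣_ W₀)) (ComplexShape.up ℤ) 0).app (M₀.restrict W₀.ι))
  let a1 : (Scheme.Modules.pullback (q ∣_ W₀)).obj (M₀.restrict W₀.ι) ≅
      ((Scheme.Modules.pushforward i).obj (Coh.structureModule Z)).restrict (q ⁻¹ᵁ W₀).ι :=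
    (Scheme.Modules.pullback (q ∣_ W₀)).mapIso ((Scheme.Modules.restrictFunctorIsoPullback W₀.ι).app M₀) ≪≫
    (Scheme.Modules.pullbackComp (q ∣_ W₀) W₀.ι).app M₀ ≪≫
    (Scheme.Modules.pullbackCongr (morphismRestrict_ι q W₀)).app M₀ ≪≫
    ((Scheme.Modules.pullbackComp (q ⁻¹ᵁ W₀).ι q).app M₀).symm ≪≫
    ((Scheme.Modules.restrictFunctorIsoPullback (q ⁻¹ᵁ W₀).ι).app _).symm ≪≫
    (Scheme.Modules.restrictFunctor (q ⁻¹ᵁ W₀).ι).mapIso (a ≪≫
      (Scheme.Modules.pushforward i).mapIso (PerfC.PullRestrict.pullbackUnit w))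
  let e7 := DerivedCategory.Q.mapIso ((HomologicalComplex.single (q ⁻¹ᵁ W₀).toScheme.Modules
    (ComplexShape.up ℤ) 0).mapIso a1)
  let e8 := DerivedCategory.Q.mapIso ((HomologicalComplex.singleMapHomologicalComplex
    (Scheme.Modules.restrictFunctor (q ⁻¹ᵁ W₀).ι) (ComplexShape.up ℤ) 0).app
      ((Scheme.Modules.pushforward i).obj (Coh.structureModule Z)))
  exact ⟨e1 ≪≫ e2 ≪≫ e3 ≪≫ e4 ≪≫ e5 ≪≫ e6 ≪≫ e7 ≪≫ e8.symm⟩

end Derived

section Main

open Groth.Agent.LoccohB.ClosGeom704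

/-- The preimage of the range of the top horizontal arrow. -/
theorem preimage_opensRange {Z₀ X₀ U₀ O₀ : Scheme.{u}} {b₀ : Z₀ ⟶ X₀} {j₀ : U₀ ⟶ Z₀} {c₀ : U₀ ⟶ O₀}
    {o : O₀ ⟶ X₀} [IsOpenImmersion o] [IsOpenImmersion j₀] (H₀ : IsPullback j₀ c₀ b₀ o) :
    b₀ ⁻¹ᵁ o.opensRange = j₀.opensRange := by
  ext z
  constructor
  · rintro ⟨y, hy⟩
    obtain ⟨a, ha, -⟩ := Scheme.exists_preimage_of_isPullback H₀ z y hy.symm
    exact ⟨a, ha⟩
  · rintro ⟨a, rfl⟩
    exact ⟨c₀ a, by rw [← Scheme.Hom.comp_apply, ← Scheme.Hom.comp_apply, H₀.w]⟩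

/-- **The derived Chow lemma**, with a closed subscheme of finite presentation. -/
theorem main (A : Type u) [CommRing A] {X : Scheme.{u}} (g : X ⟶ Spec (CommRingCat.of A))
    [IsSeparated g] [LocallyOfFinitePresentation g] [QuasiCompact g] (x : X) :
    ∃ (U : X.Opens) (n : ℕ) (V : (CohB1.ProjSpace n A).Opens) (Z : Scheme.{u})
      (i : Z ⟶ (pullback g (CohB1.ProjSpace.toSpec n A))) (z : Z)
      (F : CochainComplex (pullback g (CohB1.ProjSpace.toSpec n A)).Modules ℤ),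
      x ∈ U ∧ IsClosedImmersion i ∧ LocallyOfFinitePresentation i ∧
      (i ≫ pullback.fst g (CohB1.ProjSpace.toSpec n A)) z = x ∧
      IsIso ((i ≫ pullback.fst g (CohB1.ProjSpace.toSpec n A)) ∣_ U) ∧
      IsClosedImmersion ((i ≫ pullback.snd g (CohB1.ProjSpace.toSpec n A)) ∣_ V) ∧
      (i ≫ pullback.fst g (CohB1.ProjSpace.toSpec n A)) ⁻¹ᵁ U =
        (i ≫ pullback.snd g (CohB1.ProjSpace.toSpec n A)) ⁻¹ᵁ V ∧
      Nonempty (DerivedCategory.Q.obj ((DCoh.restrictCx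
          ((pullback.snd g (CohB1.ProjSpace.toSpec n A)) ⁻¹ᵁ V)).obj F) ≅
        DerivedCategory.Q.obj ((DCoh.restrictCx ((pullback.snd g (CohB1.ProjSpace.toSpec n A)) ⁻¹ᵁ V)).obj
          ((CochainComplex.singleFunctor (pullback g (CohB1.ProjSpace.toSpec n A)).Modules 0).obj
            ((Scheme.Modules.pushforward i).obj (Coh.structureModule Z))))) ∧
      (∀ m : ℤ, DCoh.IsPseudoCoherentD m (DCoh.toD (pullback g (CohB1.ProjSpace.toSpec n A)) F)) ∧
      (∀ W' : (pullback g (CohB1.ProjSpace.toSpec n A)).Opens,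
        Disjoint (W' : Set ↥(pullback g (CohB1.ProjSpace.toSpec n A))) (Set.range i) →
        IsZero (DerivedCategory.Q.obj ((DCoh.restrictCx W').obj F))) := by
  obtain ⟨Λ, _, _, l, X₀, g₀, u, hs, hft, hqc, sq⟩ := exists_model A g
  have hN : IsLocallyNoetherian X₀ := LocallyOfFiniteType.isLocallyNoetherian g₀
  obtain ⟨U₀, hU₀, hx, -⟩ := exists_isAffineOpen_mem_and_subset (x := u x) (U := (⊤ : X₀.Opens)) trivial
  have hUa : IsAffine U₀.toScheme := hU₀
  obtain ⟨n, c, hc, hw⟩ := exists_closed_affineSpace Λ (U₀.ι ≫ g₀)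
  have hproper : IsProper (CohB1.ProjSpace.toSpec n Λ) := Ega3B.ProjProper.isProper_toSpec n Λ
  have hflat : Flat (CohB1.ProjSpace.toSpec n Λ) := by
    have : Smooth (CohB1.ProjSpace.toSpec n Λ) := SmoothOfRelativeDimension.smooth n _
    infer_instance
  have hUι : QuasiCompact U₀.ι := by
    have h1 : QuasiCompact (U₀.ι ≫ g₀) := inferInstance
    exact QuasiCompact.of_comp U₀.ι g₀
  obtain ⟨Z₀, i₀, j₀, hi₀, hj₀, hjd, h1, h2⟩ := exists_closure g₀ (CohB1.ProjSpace.toSpec n Λ) U₀.ι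
    (Sga5.ProjSmooth.chart n Λ 0) c (by rw [Sga5.ProjSmooth.chart_toSpec]; exact hw)
  have hP₀ : IsLocallyNoetherian (pullback g₀ (CohB1.ProjSpace.toSpec n Λ)) :=
    LocallyOfFiniteType.isLocallyNoetherian (pullback.fst g₀ (CohB1.ProjSpace.toSpec n Λ))
  have sqP := CohqB.ProjBC.isPullback_pmap l n
  have T1 := (IsPullback.of_hasPullback g (CohB1.ProjSpace.toSpec n A)).flip.paste_horiz sqP
  have T2 := (IsPullback.of_hasPullback g (CohB1.ProjSpace.toSpec n A)).paste_horiz sq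
  rw [← sq.w] at T1
  rw [← sqP.w] at T2
  let q : pullback g (CohB1.ProjSpace.toSpec n A) ⟶ pullback g₀ (CohB1.ProjSpace.toSpec n Λ) :=
    pullback.lift (pullback.fst _ _ ≫ u) (pullback.snd _ _ ≫ CohqB.ProjBC.pmap l n) (by
      rw [Category.assoc, ← T1.w])
  have hq1 : q ≫ pullback.fst _ _ = pullback.fst _ _ ≫ u := pullback.lift_fst _ _ _
  have hq2 : q ≫ pullback.snd _ _ = pullback.snd _ _ ≫ CohqB.ProjBC.pmap l n := pullback.lift_snd _ _ _
  rw [← hq2] at T1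
  rw [← hq1] at T2
  have S1 := IsPullback.of_right T1 hq1 (IsPullback.of_hasPullback g₀ (CohB1.ProjSpace.toSpec n Λ)).flip
  have S2 := IsPullback.of_right T2 hq2 (IsPullback.of_hasPullback g₀ (CohB1.ProjSpace.toSpec n Λ))
  have H' := IsPullback.of_hasPullback i₀ q
  have B1 := H'.paste_vert S1
  have B2 := H'.paste_vert S2
  obtain ⟨hI1, hI2⟩ := restr B1 h1 (MorphismProperty.isomorphisms Scheme.{u})
    (show IsIso (𝟙 U₀.toScheme) from inferInstance)
  obtain ⟨hC1, hC2⟩ := restr B2 h2 @IsClosedImmersion hc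
  have hIso : IsIso ((pullback.snd i₀ q ≫ pullback.fst g (CohB1.ProjSpace.toSpec n A)) ∣_
    (u ⁻¹ᵁ U₀.ι.opensRange)) := hI1
  have hxU : x ∈ u ⁻¹ᵁ U₀.ι.opensRange := by
    change u x ∈ U₀.ι.opensRange
    rwa [Scheme.Opens.opensRange_ι]
  obtain ⟨z', hz'⟩ := ((pullback.snd i₀ q ≫ pullback.fst g (CohB1.ProjSpace.toSpec n A)) ∣_
    (u ⁻¹ᵁ U₀.ι.opensRange)).surjective ⟨x, hxU⟩
  have hL := Groth.Agent.S0959.result q
  let K := (DCoh.Lpull q).obj (DCoh.inD _ ((Scheme.Modules.pushforward i₀).obj (Coh.structureModule Z₀)))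
  let F := DerivedCategory.Q.objPreimage K
  let e : DerivedCategory.Q.obj F ≅ K := DerivedCategory.Q.objObjPreimageIso K
  have hlfp : LocallyOfFinitePresentation i₀ := lfp_of_noeth i₀
  let W₀ := (pullback.snd g₀ (CohB1.ProjSpace.toSpec n Λ)) ⁻¹ᵁ (Sga5.ProjSmooth.chart n Λ 0).opensRange
  have hW₀ : i₀ ⁻¹ᵁ W₀ = j₀.opensRange := by
    rw [← preimage_opensRange h2, Scheme.Hom.comp_preimage]
  have hfl1 : Flat (W₀.ι ≫ pullback.fst g₀ (CohB1.ProjSpace.toSpec n Λ)) := inferInstance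
  have hfl2 : Flat ((i₀ ⁻¹ᵁ W₀).ι ≫ i₀ ≫ pullback.fst g₀ (CohB1.ProjSpace.toSpec n Λ)) := by
    rw [hW₀]
    have h3 : j₀.opensRange.ι ≫ i₀ ≫ pullback.fst g₀ (CohB1.ProjSpace.toSpec n Λ) =
        j₀.isoOpensRange.inv ≫ U₀.ι := by
      rw [Iso.eq_inv_comp, ← Category.assoc, Scheme.Hom.isoOpensRange_hom_ι, h1.w, Category.id_comp]
    rw [h3]
    infer_instance
  refine ⟨u ⁻¹ᵁ U₀.ι.opensRange, n, (CohqB.ProjBC.pmap l n) ⁻¹ᵁ (Sga5.ProjSmooth.chart n Λ 0).opensRange,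
    pullback i₀ q, pullback.snd i₀ q, (Scheme.Opens.ι _) z', F, hxU, inferInstance, inferInstance, ?_, hIso,
    hC1, hI2.trans hC2.symm, ?_, ?_, ?_⟩
  · rw [← Scheme.Hom.comp_apply, ← morphismRestrict_ι, Scheme.Hom.comp_apply, hz']
    rfl
  · refine nonempty_restrict S1 H' W₀ _ ?_ F e
    rw [← Scheme.Hom.comp_preimage, ← Scheme.Hom.comp_preimage, hq2]
  · intro m
    exact PerfC.PcLocal.pc_of_iso e.symm (Groth.Agent.S0910.result q m _ (Dual.H337.CohR.pc_push i₀ m))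
  · intro W' hW'
    refine isZero_restrict W' ?_ F (Coh.structureModule Z₀) e
    refine hW'.mono_right ?_
    rintro y ⟨t, ht⟩
    obtain ⟨a, -, ha⟩ := Scheme.exists_preimage_of_isPullback H' t y ht
    exact ⟨a, ha⟩

end Main

end K260.DerChow
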