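import Groth.Agent.FlatMor.K260.DedFlat
import Groth.Agent.Neron.K491.Closure

/-!
# Flat limits over a regular one-dimensional base

* `flat_of_dominant`: a scheme over an integral base `Y` whose local rings are valuation rings which receives a
  schematically dominant quasi-compact morphism from a flat `Y`-scheme is flat;
* `exists_unique_flat_closure`: a flat closed subscheme of the part of `Z` over a nonempty open `U ⊆ Y` extends
  uniquely to a flat closed subscheme of `Z`.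
-/

set_option autoImplicit false
universe u

open CategoryTheory CategoryTheory.Limits AlgebraicGeometry TopologicalSpace

namespace K260.FlatClos

open Groth.Agent

variable {X Y Z : Scheme.{u}}

/-- On a flat scheme over an integral scheme, nonzero functions of the base are nonzerodivisors on sections over any
open. -/
theorem eq_zero_of_mul [IsIntegral Y] (hY : ∀ y : Y, ValuationRing (Y.presheaf.stalk y)) (f : X ⟶ Y) [Flat f]
    (U : Y.affineOpens) (V : X.Opens) (e : V ≤ f ⁻¹ᵁ U.1) (a : Γ(Y, U)) (b : Γ(X, V)) (ha : a ≠ 0)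
    (h : f.appLE U V e a * b = 0) : b = 0 := by
  have key := (DedFlat.flat_iff_nonZeroDivisors hY f).1 inferInstance
  refine TopCat.Sheaf.eq_of_locally_eq' (X.sheaf) (fun i : {W : X.affineOpens // W.1 ≤ V} => i.1.1) V
    (fun i => homOfLE i.2) ?_ b 0 ?_
  · intro x hx
    obtain ⟨W, hW, hxW, hWV⟩ := exists_isAffineOpen_mem_and_subset hx
    rw [Opens.mem_iSup]
    exact ⟨⟨⟨W, hW⟩, hWV⟩, hxW⟩
  · rintro ⟨W, hW⟩
    have h1 := key U W (hW.trans e) a (X.presheaf.map (homOfLE hW).op b) ha ?_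
    · rw [map_zero]
      exact h1
    · have h2 := congrArg (X.presheaf.map (homOfLE hW).op) h
      rw [map_mul, map_zero] at h2
      have h3 : X.presheaf.map (homOfLE hW).op (f.appLE U V e a) = f.appLE U W (hW.trans e) a := by
        rw [← ConcreteCategory.comp_apply, Scheme.Hom.appLE_map]
      rw [h3] at h2
      exact h2

/-- A scheme over an integral base with valuation rings as local rings which receives a schematically dominant
quasi-compact morphism from a flat scheme is flat. -/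
theorem flat_of_dominant [IsIntegral Y] (hY : ∀ y : Y, ValuationRing (Y.presheaf.stalk y)) (t : X ⟶ Z)
    [QuasiCompact t] [IsSchemeTheoreticallyDominant t] (q : Z ⟶ Y) [Flat (t ≫ q)] : Flat q := by
  rw [DedFlat.flat_iff_nonZeroDivisors hY]
  intro U V e a b ha hab
  apply t.app_injective V.1
  rw [map_zero]
  refine eq_zero_of_mul hY (t ≫ q) U (t ⁻¹ᵁ V.1) ((t.preimage_mono e)) a _ ha ?_
  have h := congrArg (t.app V.1) hab
  rw [map_mul, map_zero] at h
  rw [← h]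
  congr 1
  rw [← ConcreteCategory.comp_apply, Scheme.Hom.app_eq_appLE]
  rw [Scheme.Hom.appLE_comp_appLE]

/-- A flat closed subscheme of the part of `Z` over a nonempty open of `Y` has a unique flat extension. -/
theorem exists_unique_flat_closure [IsIntegral Y] [IsLocallyNoetherian Y]
    (hY : ∀ y : Y, ValuationRing (Y.presheaf.stalk y))
    (p : Z ⟶ Y) (U : Y.Opens) [Nonempty U] (i : X ⟶ ↑(p ⁻¹ᵁ U)) [IsClosedImmersion i]
    [Flat (i ≫ (p ⁻¹ᵁ U).ι ≫ p)] :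
    ∃ (X' : Scheme.{u}) (i' : X' ⟶ Z) (j : X ⟶ X'),
      IsClosedImmersion i' ∧ Flat (i' ≫ p) ∧ IsPullback j i i' (p ⁻¹ᵁ U).ι ∧
      ∀ (X'' : Scheme.{u}) (i'' : X'' ⟶ Z) (j'' : X ⟶ X''),
        IsClosedImmersion i'' → Flat (i'' ≫ p) → IsPullback j'' i i'' (p ⁻¹ᵁ U).ι →
        ∃ e : X' ≅ X'', e.hom ≫ i'' = i' := by
  have hsq : IsPullback (p ⁻¹ᵁ U).ι (p ∣_ U) p U.ι := (isPullback_morphismRestrict p U).flip
  have hqcU : QuasiCompact U.ι := inferInstance
  have hqc : QuasiCompact (p ⁻¹ᵁ U).ι := MorphismProperty.of_isPullback hsq.flip hqcU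
  have hdU : IsSchemeTheoreticallyDominant U.ι := by
    have : IsDominant U.ι := by
      constructor
      rw [denseRange_iff_closure_range, Scheme.Opens.range_ι]
      exact (U.2.dense (by
        obtain ⟨x⟩ := ‹Nonempty U›
        exact ⟨x.1, x.2⟩)).closure_eq
    exact .of_isDominant _
  have hdom : ∀ (X'' : Scheme.{u}) (i'' : X'' ⟶ Z) (j'' : X ⟶ X''), Flat (i'' ≫ p) →
      IsPullback j'' i i'' (p ⁻¹ᵁ U).ι → IsSchemeTheoreticallyDominant j'' := by
    intro X'' i'' j'' hfl hpb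
    exact .of_isPullback (hpb.paste_vert hsq).flip
  have : QuasiCompact (i ≫ (p ⁻¹ᵁ U).ι) := inferInstance
  have hpb : IsPullback (i ≫ (p ⁻¹ᵁ U).ι).toImage i (i ≫ (p ⁻¹ᵁ U).ι).imageι (p ⁻¹ᵁ U).ι := by
    have : IsClosedImmersion (pullback.lift (f := 𝟙 Z) (g := (p ⁻¹ᵁ U).ι) (i ≫ (p ⁻¹ᵁ U).ι) i (by simp)) := by
      have h1 : pullback.lift (f := 𝟙 Z) (g := (p ⁻¹ᵁ U).ι) (i ≫ (p ⁻¹ᵁ U).ι) i (by simp) ≫ pullback.snd (𝟙 Z) (p ⁻¹ᵁ U).ι = i :=
        pullback.lift_snd _ _ _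
      have h2 : IsClosedImmersion (pullback.lift (f := 𝟙 Z) (g := (p ⁻¹ᵁ U).ι) (i ≫ (p ⁻¹ᵁ U).ι) i (by simp) ≫
        pullback.snd (𝟙 Z) (p ⁻¹ᵁ U).ι) := by rw [h1]; infer_instance
      exact IsClosedImmersion.of_comp_isClosedImmersion _ (pullback.snd (𝟙 Z) (p ⁻¹ᵁ U).ι)
    have := K491.Closure.isPullback_image (p ⁻¹ᵁ U).ι (𝟙 Z) i (i ≫ (p ⁻¹ᵁ U).ι) (Category.comp_id _)
    exact this.of_iso (Iso.refl _) (Iso.refl _) (Iso.refl _) (Iso.refl _) (by simp) (by simp) (by simp) (by simp)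
  have hdi : IsSchemeTheoreticallyDominant (i ≫ (p ⁻¹ᵁ U).ι).toImage := Sga3C.SchemImage.dominant_toImage _
  have hfl : Flat ((i ≫ (p ⁻¹ᵁ U).ι).toImage ≫ (i ≫ (p ⁻¹ᵁ U).ι).imageι ≫ p) := by
    rw [Scheme.Hom.toImage_imageι_assoc, Category.assoc]
    infer_instance
  refine ⟨_, (i ≫ (p ⁻¹ᵁ U).ι).imageι, (i ≫ (p ⁻¹ᵁ U).ι).toImage, inferInstance,
    flat_of_dominant hY (i ≫ (p ⁻¹ᵁ U).ι).toImage _, hpb, ?_⟩
  intro X'' i'' j'' hi'' hfl'' hpb''
  have hd'' := hdom X'' i'' j'' hfl'' hpb''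
  obtain ⟨l, hl⟩ := Sga3C.SchemImage.exists_lift (i ≫ (p ⁻¹ᵁ U).ι).toImage (i ≫ (p ⁻¹ᵁ U).ι).imageι i'' j'' (by
    rw [Scheme.Hom.toImage_imageι, hpb''.w])
  obtain ⟨m, hm⟩ := Sga3C.SchemImage.exists_lift j'' i'' (i ≫ (p ⁻¹ᵁ U).ι).imageι
    (i ≫ (p ⁻¹ᵁ U).ι).toImage (by
    rw [Scheme.Hom.toImage_imageι, hpb''.w])
  refine ⟨⟨l, m, ?_, ?_⟩, hl⟩
  · rw [← cancel_mono (i ≫ (p ⁻¹ᵁ U).ι).imageι, Category.assoc, hm, hl, Category.id_comp]
  · rw [← cancel_mono i'', Category.assoc, hl, hm, Category.id_comp]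

end K260.FlatClos
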