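import Groth.Agent.FlatMor.K260.EquidimDim
import Groth.Agent.FlatMor.K260.Gen
import Groth.Agent.CycA.IntLocal
import Groth.Agent.CycB.RelDim3
import Groth.Agent.CycB.RelDim4
import Groth.Agent.Old.H33.EquidimBC
import Groth.Agent.Flat2D.DimFlat

/-!
# Relative dimension of flat morphisms with equidimensional source over a field
-/

set_option autoImplicit false
universe u

open CategoryTheory AlgebraicGeometry TopologicalSpace Topology

namespace K260.FlatRelDim

open Groth.Agent.CycB.RelDim Groth.Agent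

variable {k : Type u} [Field k]

/-- `dim O_{Z,z} + trdeg κ(z)/k = d` on a scheme of pure dimension `d` over `k`. -/
theorem exists_dims {Z : Scheme.{u}} (p : Z ⟶ Spec (CommRingCat.of k)) [LocallyOfFiniteType p] (d : ℕ)
    (h : ∀ C ∈ irreducibleComponents (Z : Type u), topologicalKrullDim C = d) (z : Z) :
    ∃ a t : ℕ, Order.coheight z = a ∧ rtd p z = t ∧ a + t = d := by
  let _ : Z.Over (Spec (CommRingCat.of k)) := ⟨p⟩
  have : LocallyOfFiniteType (Z ↘ Spec (CommRingCat.of k)) := ‹LocallyOfFiniteType p›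
  have h1 := CycA.IntLocal.rtd_eq_trdeg p z
  have h2 := VarietyB.DimSch.localDim_eq k z
  rw [EquidimDim.localDim_eq p d h z, ringKrullDim_stalk_eq_coheight] at h2
  set n := VarietyB.DimSch.trd k Z z
  have h3 : (d : ℕ∞) = Order.coheight z + n := by exact_mod_cast h2
  have h4 : Order.coheight z ≠ ⊤ := by
    intro h0
    rw [h0, top_add] at h3
    exact ENat.natCast_ne_top d h3
  obtain ⟨a, ha⟩ := ENat.ne_top_iff_exists.1 h4
  refine ⟨a, n, ha.symm, h1, ?_⟩
  rw [← ha] at h3
  exact_mod_cast h3.symm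

theorem coheight_asFiber {X Y : Scheme.{u}} (f : X ⟶ Y) (x : X) (hx : FibGeneric f x) :
    Order.coheight (f.asFiber x) = 0 := by
  rw [Order.coheight_eq_zero]
  intro z hz
  have hz' : z ⤳ f.asFiber x := hz
  have h1 : f.fiberι (f x) z ⤳ x := by
    have := hz'.map (f.fiberι (f x)).continuous
    rwa [Scheme.Hom.fiberι_asFiber] at this
  have h2 : f (f.fiberι (f x) z) = f x := by
    have : f.fiberι (f x) z ∈ Set.range (f.fiberι (f x)) := ⟨z, rfl⟩
    rw [Scheme.Hom.range_fiberι] at this
    exact this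
  have h3 := hx _ h2 h1
  have h4 : z = f.asFiber x := by
    apply (f.fiberι (f x)).isEmbedding.injective
    rw [h3, Scheme.Hom.fiberι_asFiber]
  rw [h4]

/-- A flat morphism from a scheme of pure dimension `d + n` to an irreducible scheme of dimension
`d` has relative dimension `n`. -/
theorem rtd_eq {X Y : Scheme.{u}} (f : X ⟶ Y) (q : Y ⟶ Spec (CommRingCat.of k))
    [LocallyOfFiniteType q] [LocallyOfFiniteType (f ≫ q)] [IsLocallyNoetherian X]
    [IsLocallyNoetherian Y] [Flat f] (d n : ℕ)
    (hY : ∀ C ∈ irreducibleComponents (Y : Type u), topologicalKrullDim C = d)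
    (hX : ∀ C ∈ irreducibleComponents (X : Type u), topologicalKrullDim C = (d + n : ℕ))
    (x : X) (hx : FibGeneric f x) : rtd f x = n := by
  obtain ⟨a, t, ha, ht, hat⟩ := exists_dims (f ≫ q) (d + n) hX x
  obtain ⟨b, s, hb, hs, hbs⟩ := exists_dims q d hY (f x)
  have h1 := Flat2D.DimFlat.coheight_eq_add_fiber f x (Flat.stalkMap f x)
  rw [coheight_asFiber f x hx, add_zero, ha, hb] at h1
  have h1' : a = b := by exact_mod_cast h1
  have h2 := rtd_comp f q x
  rw [ht, hs] at h2
  have h3 : rtd f x < Cardinal.aleph0 := by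
    refine lt_of_le_of_lt ?_ (Cardinal.natCast_lt_aleph0 (n := t))
    rw [h2]
    exact self_le_add_left _ _
  obtain ⟨r, hr⟩ := Cardinal.lt_aleph0.1 h3
  rw [hr] at h2 ⊢
  have h4 : t = s + r := by exact_mod_cast h2
  have : r = n := by omega
  rw [this]

end K260.FlatRelDim
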