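import Groth.Agent.FlatMor.K260.Gen
import Groth.Agent.S2351
import Groth.Agent.Ega4dA.SmoothStalk
import Groth.Agent.Pic13.H557.GeoInt
import Groth.Agent.S8886

/-!
# Normalization commutes with smooth base change (integral schemes)
-/

set_option autoImplicit false
universe u

open CategoryTheory CategoryTheory.Limits AlgebraicGeometry TopologicalSpace

namespace K260.NormSmooth

open Groth.Agent

variable {X Y N : Scheme.{u}}

theorem exists_fac {K : Type u} [Field K] {E : Scheme.{u}} (m : Spec (CommRingCat.of K) ⟶ E) (e : E)
    (hm : m (IsLocalRing.closedPoint K) = e) :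
    ∃ γ : E.residueField e ⟶ CommRingCat.of K, Spec.map γ ≫ E.fromSpecResidueField e = m := by
  subst hm
  exact ⟨_, Scheme.descResidueField_stalkClosedPointTo_fromSpecResidueField K E m⟩

/-- Two morphisms from the spectrum of a field through a point `n` at which the residue field map of `ν` is surjective
agree as soon as they agree after `ν`. -/
theorem eq_of_comp_eq (ν : N ⟶ Y) (n : N) (h : Function.Surjective (ν.residueFieldMap n).hom) {K : Type u} [Field K]
    (a b : Spec (CommRingCat.of K) ⟶ N) (ha : a (IsLocalRing.closedPoint K) = n)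
    (hb : b (IsLocalRing.closedPoint K) = n) (hab : a ≫ ν = b ≫ ν) : a = b := by
  obtain ⟨α, rfl⟩ := exists_fac a n ha
  obtain ⟨β, rfl⟩ := exists_fac b n hb
  rw [Category.assoc, Category.assoc, ← Scheme.Hom.SpecMap_residueFieldMap_fromSpecResidueField,
    ← Category.assoc, ← Category.assoc, cancel_mono, ← Spec.map_comp, ← Spec.map_comp] at hab
  have h1 := Spec.map_injective hab
  congr 2
  ext x
  obtain ⟨y, rfl⟩ := h x
  exact congr(($h1).hom y)

/-- A flat morphism of integral schemes maps the generic point to the generic point. -/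
theorem map_genericPoint (f : X ⟶ Y) [Flat f] [IsIntegral X] [IsIntegral Y] :
    f (genericPoint X) = genericPoint Y := by
  have h1 : K260.Gen.IsMax (genericPoint X) := fun y hy => (hy.antisymm (genericPoint_specializes y)).eq
  exact ((h1.map (Flat.generalizingMap f)) _ (genericPoint_specializes _)).symm

theorem exists_spec_stalk (f : X ⟶ Y) (x : X) (y : Y) (h : f x = y) :
    ∃ w : Spec (X.presheaf.stalk x) ⟶ Spec (Y.presheaf.stalk y),
      w ≫ Y.fromSpecStalk y = X.fromSpecStalk x ≫ f := by
  subst h
  exact ⟨_, Scheme.SpecMap_stalkMap_fromSpecStalk f⟩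

/-- The base change of an integral scheme over an integral scheme `Y` along a birational morphism is integral. -/
theorem isIntegral_pullback (f : X ⟶ Y) [Flat f] [IsIntegral X] [IsIntegral Y] (ν : N ⟶ Y) [IsIntegral N]
    (hν : ν (genericPoint N) = genericPoint Y)
    (hb : Function.Bijective (ν.residueFieldMap (genericPoint N)).hom) :
    IsIntegral (pullback f ν) := by
  have hfl : Flat (pullback.snd f ν) := inferInstance
  apply S8886.result (pullback.snd f ν)
  have h1 := isPullback_fiberToSpecResidueField_of_isPullback (IsPullback.of_hasPullback f ν) (genericPoint N)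
  have h2 : IsIso (ν.residueFieldMap (genericPoint N)) := by
    rw [ConcreteCategory.isIso_iff_bijective]; exact hb
  obtain ⟨m, hm⟩ : ∃ m : (pullback.snd f ν).fiber (genericPoint N) ⟶ f.fiber (ν (genericPoint N)), IsIso m :=
    ⟨_, h1.isIso_fst_of_isIso⟩
  have h4 : ∀ y : Y, y = genericPoint Y → IsIntegral (f.fiber y) := by
    rintro y rfl
    exact Pic13.H557.GeoInt.isIntegral_genericFiber f (map_genericPoint f)
  have h5 := h4 _ hν
  have h6 : Nonempty ((pullback.snd f ν).fiber (genericPoint N)) :=
    ⟨(inv m) (genericPoint (f.fiber (ν (genericPoint N))))⟩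
  exact isIntegral_of_isOpenImmersion m

section

variable (f : X ⟶ Y) [Smooth f] [IsIntegral X] [IsIntegral Y]
    [QuasiCompact (X.fromSpecStalk (genericPoint X))] [QuasiSeparated (X.fromSpecStalk (genericPoint X))]
    [QuasiCompact (Y.fromSpecStalk (genericPoint Y))] [QuasiSeparated (Y.fromSpecStalk (genericPoint Y))]

/-- The canonical morphism from the spectrum of the function field to the normalization. -/
noncomputable def toN (X : Scheme.{u}) [IsIntegral X]
    [QuasiCompact (X.fromSpecStalk (genericPoint X))] [QuasiSeparated (X.fromSpecStalk (genericPoint X))] :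
    Spec (X.presheaf.stalk (genericPoint X)) ⟶ Curv2.normalization X :=
  (X.fromSpecStalk (genericPoint X)).toNormalization

theorem toN_ι (X : Scheme.{u}) [IsIntegral X]
    [QuasiCompact (X.fromSpecStalk (genericPoint X))] [QuasiSeparated (X.fromSpecStalk (genericPoint X))] :
    toN X ≫ Curv2.normalizationι X = X.fromSpecStalk (genericPoint X) :=
  Scheme.Hom.toNormalization_fromNormalization _

theorem hom_ext (X : Scheme.{u}) [IsIntegral X]
    [QuasiCompact (X.fromSpecStalk (genericPoint X))] [QuasiSeparated (X.fromSpecStalk (genericPoint X))]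
    {T : Scheme.{u}} (a b : Curv2.normalization X ⟶ T) (g : T ⟶ X) [IsAffineHom g]
    (h : toN X ≫ a = toN X ≫ b) (ha : a ≫ g = Curv2.normalizationι X) (hb : b ≫ g = Curv2.normalizationι X) : a = b :=
  Scheme.Hom.normalization.hom_ext _ _ _ g h ha hb

theorem exists_desc (X : Scheme.{u}) [IsIntegral X]
    [QuasiCompact (X.fromSpecStalk (genericPoint X))] [QuasiSeparated (X.fromSpecStalk (genericPoint X))]
    {T : Scheme.{u}} (ρ : Spec (X.presheaf.stalk (genericPoint X)) ⟶ T) (g : T ⟶ X) [IsIntegralHom g]
    (h : ρ ≫ g = X.fromSpecStalk (genericPoint X)) :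
    ∃ D : Curv2.normalization X ⟶ T, IsIntegralHom D ∧ D ≫ g = Curv2.normalizationι X ∧ toN X ≫ D = ρ :=
  ⟨(X.fromSpecStalk (genericPoint X)).normalizationDesc ρ g h.symm, inferInstanceAs (IsIntegralHom
    ((X.fromSpecStalk (genericPoint X)).normalizationDesc ρ g h.symm)),
    Scheme.Hom.normalizationDesc_comp _ _ _ _, Scheme.Hom.toNormalization_normalizationDesc _ _ _ _⟩

theorem toNormalization_pt (X : Scheme.{u}) [IsIntegral X] [IsIntegral (Curv2.normalization X)]
    [QuasiCompact (X.fromSpecStalk (genericPoint X))] [QuasiSeparated (X.fromSpecStalk (genericPoint X))]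
    (z : Spec (X.presheaf.stalk (genericPoint X))) :
    toN X z = genericPoint (Curv2.normalization X) := by
  have hsub := Groth.Agent.Ega2.Normal.subsingleton_spec_functionField X
  have hd : IsDominant (toN X) := inferInstanceAs (IsDominant (X.fromSpecStalk (genericPoint X)).toNormalization)
  have h1 : IsGenericPoint (toN X z)
      (Set.univ : Set (Curv2.normalization X)) := by
    have h2 : Set.range (toN X) =
        {toN X z} := by
      ext w
      constructor
      · rintro ⟨w, rfl⟩
        rw [Subsingleton.elim w z]; rfl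
      · rintro rfl; exact ⟨z, rfl⟩
    have h3 := (toN X).denseRange
    rw [DenseRange, dense_iff_closure_eq] at h3
    change closure {_} = Set.univ
    rw [← h2]
    exact h3
  exact h1.eq (genericPoint_spec _)

theorem exists_iso : ∃ e : Curv2.normalization X ≅ pullback f (Curv2.normalizationι Y),
    e.hom ≫ pullback.fst f (Curv2.normalizationι Y) = Curv2.normalizationι X := by
  obtain ⟨hYi, hYn, hYs, hYg, hYb⟩ := S2351.result Y
  obtain ⟨hXi, hXn, hXs, hXg, hXb⟩ := S2351.result X
  have hint : IsIntegralHom (Curv2.normalizationι Y) :=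
    inferInstanceAs (IsIntegralHom (Y.fromSpecStalk (genericPoint Y)).fromNormalization)
  have hPi := isIntegral_pullback f (Curv2.normalizationι Y) hYg hYb
  have hPn : Pi1.IsNormalScheme (pullback f (Curv2.normalizationι Y)) := by
    intro x
    exact Ega4dA.SmoothStalk.stalk_of_smooth hYn (pullback.snd f (Curv2.normalizationι Y)) x
  have hfst : IsIntegralHom (pullback.fst f (Curv2.normalizationι Y)) := inferInstance
  have hfX := map_genericPoint f
  obtain ⟨wf, hwf⟩ := exists_spec_stalk f _ _ hfX
  let ρ : Spec (X.presheaf.stalk (genericPoint X)) ⟶ pullback f (Curv2.normalizationι Y) :=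
    pullback.lift (X.fromSpecStalk (genericPoint X)) (wf ≫ toN Y) (by
        rw [Category.assoc, toN_ι, hwf])
  have hρ1 : ρ ≫ pullback.fst _ _ = X.fromSpecStalk (genericPoint X) := pullback.lift_fst _ _ _
  have hρ2 : ρ ≫ pullback.snd _ _ = wf ≫ toN Y := pullback.lift_snd _ _ _
  obtain ⟨D, hD, hD1, hD2⟩ := exists_desc X ρ (pullback.fst _ _) hρ1
  -- the generic point of the fibre product
  have hsndg : pullback.snd f (Curv2.normalizationι Y) (genericPoint _) = genericPoint _ := map_genericPoint _
  have hfstg : pullback.fst f (Curv2.normalizationι Y) (genericPoint _) = genericPoint X := by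
    have h2 := (genericPoint_specializes (ρ (IsLocalRing.closedPoint _))).map
      (pullback.fst f (Curv2.normalizationι Y)).continuous
    rw [← Scheme.Hom.comp_apply, hρ1, Scheme.fromSpecStalk_closedPoint] at h2
    exact (h2.antisymm (genericPoint_specializes _)).eq
  obtain ⟨wP, hwP⟩ := exists_spec_stalk _ _ _ hfstg
  have key : wP ≫ ρ = (pullback f (Curv2.normalizationι Y)).fromSpecStalk (genericPoint _) := by
    apply pullback.hom_ext
    · rw [Category.assoc, hρ1, hwP]
    · rw [Category.assoc, hρ2]
      refine eq_of_comp_eq (K := (pullback f (Curv2.normalizationι Y)).functionField) (Curv2.normalizationι Y)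
        _ hYb.2 _ _ ?_ ?_ ?_
      · exact toNormalization_pt Y _
      · change ((pullback f (Curv2.normalizationι Y)).fromSpecStalk (genericPoint _) ≫
          pullback.snd f (Curv2.normalizationι Y)) (IsLocalRing.closedPoint _) = _
        rw [Scheme.Hom.comp_apply, Scheme.fromSpecStalk_closedPoint]
        exact hsndg
      · rw [Category.assoc, Category.assoc, Category.assoc, toN_ι, hwf, reassoc_of% hwP, pullback.condition]
  have hiso : IsIso D := Ega2.Normal.isIso_of_functionField_section hPn D
    (wP ≫ toN X) (by rw [Category.assoc, hD2, key])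
  exact ⟨asIso D, hD1⟩

theorem eq_id (X : Scheme.{u}) [IsIntegral X]
    [QuasiCompact (X.fromSpecStalk (genericPoint X))] [QuasiSeparated (X.fromSpecStalk (genericPoint X))]
    (e : Curv2.normalization X ≅ Curv2.normalization X) (he : e.hom ≫ Curv2.normalizationι X = Curv2.normalizationι X) :
    e.hom = 𝟙 _ := by
  obtain ⟨hXi, hXn, hXs, hXg, hXb⟩ := S2351.result X
  have hint : IsIntegralHom (Curv2.normalizationι X) :=
    inferInstanceAs (IsIntegralHom (X.fromSpecStalk (genericPoint X)).fromNormalization)
  refine hom_ext X _ _ (Curv2.normalizationι X) ?_ he (Category.id_comp _)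
  refine eq_of_comp_eq (K := X.functionField) (Curv2.normalizationι X) _ hXb.2 _ _ ?_ ?_ ?_
  · rw [Scheme.Hom.comp_apply, toNormalization_pt X]
    exact map_genericPoint e.hom
  · rw [Category.comp_id]
    exact toNormalization_pt X _
  · rw [Category.assoc, he, Category.comp_id]

end

end K260.NormSmooth
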