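import Groth.Agent.S0421

/-!
# A reduced special fibre, algebraic part
-/

set_option autoImplicit false
universe u

open CategoryTheory AlgebraicGeometry TopologicalSpace

namespace K260.RedFibre

/-- `B` Noetherian, `ϖ` in no minimal prime, `B/ϖ` reduced: then `ϖ` is a nonzerodivisor. -/
theorem eq_zero_of_mul {B : Type*} [CommRing B] [IsNoetherianRing B] (ϖ : B)
    (hmin : ∀ p ∈ minimalPrimes B, ϖ ∉ p) (hred : ∀ (n : ℕ) (a : B), ϖ ∣ a ^ n → ϖ ∣ a) (a : B)
    (ha : ϖ * a = 0) : a = 0 := by
  have hnil : ∀ b : B, (∀ p ∈ minimalPrimes B, b ∈ p) → b ∈ nilradical B := by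
    intro b hb
    have h := Ideal.sInf_minimalPrimes (I := (⊥ : Ideal B))
    change b ∈ (⊥ : Ideal B).radical
    rw [← h]
    exact Submodule.mem_sInf.2 hb
  have hnil' : ∀ b ∈ nilradical B, ∀ p ∈ minimalPrimes B, b ∈ p := by
    intro b hb p hp
    exact hp.1.1.radical_le_iff.2 bot_le hb
  have h1 : nilradical B ≤ Ideal.span {ϖ} • nilradical B := by
    intro n hn
    obtain ⟨m, hm⟩ := mem_nilradical.1 hn
    obtain ⟨b, rfl⟩ := hred m n (by rw [hm]; exact dvd_zero _)
    have hb : b ∈ nilradical B := by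
      apply hnil
      intro p hp
      have := hnil' _ hn p hp
      exact (hp.1.1.mem_or_mem this).resolve_left (hmin p hp)
    exact Submodule.smul_mem_smul (Ideal.mem_span_singleton_self ϖ) hb
  have hfg : (nilradical B).FG := IsNoetherian.noetherian _
  obtain ⟨r, hr, hr'⟩ := Submodule.exists_sub_one_mem_and_smul_eq_zero_of_fg_of_le_smul
    (Ideal.span {ϖ}) (nilradical B) hfg h1
  have ha' : a ∈ nilradical B := by
    apply hnil
    intro p hp
    have : ϖ * a ∈ p := by rw [ha]; exact p.zero_mem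
    exact (hp.1.1.mem_or_mem this).resolve_left (hmin p hp)
  obtain ⟨c, hc⟩ := Ideal.mem_span_singleton.1 hr
  have h2 : r * a = 0 := hr' a ha'
  have h3 : r = 1 + ϖ * c := by rw [← hc]; ring
  rw [h3] at h2
  have h4 : a + c * (ϖ * a) = 0 := by rw [← h2]; ring
  rwa [ha, mul_zero, add_zero] at h4

open TensorProduct in
theorem red_lemma {R B : Type u} [CommRing R] [CommRing B] [Algebra R B] (p : Ideal R) [p.IsMaximal]
    (ϖ : R) (hp : p = Ideal.span {ϖ}) (hr : _root_.IsReduced (p.Fiber B)) (n : ℕ) (a : B)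
    (h : algebraMap R B ϖ ∣ a ^ n) : algebraMap R B ϖ ∣ a := by
  induction n using Nat.strong_induction_on with
  | _ n ih =>
    rcases Nat.lt_or_ge n 2 with hn | hn
    · interval_cases n
      · rw [pow_zero] at h
        exact h.trans (one_dvd _)
      · rwa [pow_one] at h
    · have h1 : algebraMap R B ϖ ∣ (a ^ (n - 1)) ^ 2 := by
        rw [← pow_mul]
        exact h.trans (pow_dvd_pow a (by omega))
      exact ih (n - 1) (by omega) (Groth.Agent.S0421.red_lemma p ϖ hp hr _ h1)

end K260.RedFibre
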