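import Groth.Agent.S1470
import Groth.Agent.Dual.H318.PureDim

/-!
# Relative dimension of the closure of a point of the relative assassin
-/

set_option autoImplicit false
universe u

open CategoryTheory AlgebraicGeometry TopologicalSpace Topology

namespace K260.RelAssDim

open Groth.Agent Groth.Agent.CycB.RelDim Groth.Agent.Flat2D.RelDimClosure

variable {X S : Scheme.{u}}

/-- irreducible components are preserved by homeomorphisms -/
theorem closure_mem_of_homeomorph {A B : Type*} [TopologicalSpace A] [TopologicalSpace B] (e : A ≃ₜ B) (a : A)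
    (h : closure {a} ∈ irreducibleComponents A) : closure {e a} ∈ irreducibleComponents B := by
  have h1 : e.symm ⁻¹' (closure {a}) = closure {e a} := by
    rw [e.symm.preimage_closure]
    congr 1
    ext b
    simp [e.symm_apply_eq]
  rw [← h1]
  apply preimage_mem_irreducibleComponents h e.symm.isOpenEmbedding
  rw [e.symm.surjective.range_eq, Set.inter_univ]
  exact h.1.nonempty

/-- a generic point of a fibre of the closure of `y`, in the two languages -/
theorem closure_mem {W : Scheme.{u}} (j : W ⟶ X) [IsClosedImmersion j]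
    (f : X ⟶ S) (y : X) (hj : Set.range j = closure {y}) (w : W) (hw : FibGeneric (j ≫ f) w)
    (hy : j w ∈ closure ({y} : Set X)) :
    closure {(⟨j w, hy, rfl⟩ : Fib f y (f (j w)))} ∈ irreducibleComponents (Fib f y (f (j w))) := by
  let k : ((j ≫ f : W ⟶ S) : W → S) ⁻¹' {(j ≫ f : W ⟶ S) w} → Fib f y (f (j w)) :=
    fun v => ⟨j v.1, by
      rw [← hj]
      exact ⟨v.1, rfl⟩, by
      have h : (j ≫ f) v.1 = (j ≫ f) w := v.2
      have h1 := Scheme.Hom.comp_apply j f v.1
      have h2 := Scheme.Hom.comp_apply j f w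
      exact h1.symm.trans (h.trans h2)⟩
  have hk : IsEmbedding k := by
    refine IsEmbedding.of_comp ?_ continuous_subtype_val ?_
    · exact Continuous.subtype_mk (j.continuous.comp continuous_subtype_val) _
    · exact j.isClosedEmbedding.isEmbedding.comp IsEmbedding.subtypeVal
  have hks : Function.Surjective k := by
    rintro ⟨z, hz, hz'⟩
    rw [← hj] at hz
    obtain ⟨v, rfl⟩ := hz
    refine ⟨⟨v, ?_⟩, rfl⟩
    rw [Set.mem_preimage, Set.mem_singleton_iff, Scheme.Hom.comp_apply, Scheme.Hom.comp_apply]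
    exact hz'
  let e := ((j ≫ f).fiberHomeo ((j ≫ f) w)).trans
    ((isHomeomorph_iff_isEmbedding_surjective).2 ⟨hk, hks⟩).homeomorph
  have h := closure_mem_of_homeomorph e _ hw.closure_mem
  have he : e ((j ≫ f).asFiber w) = (⟨j w, hy, rfl⟩ : Fib f y (f (j w))) := by
    apply Subtype.ext
    change j ((j ≫ f).fiberHomeo ((j ≫ f) w) ((j ≫ f).asFiber w)).1 = j w
    rw [Scheme.Hom.asFiber, Homeomorph.apply_symm_apply]
  rw [he] at h
  exact h

theorem main (f : X ⟶ S) [LocallyOfFiniteType f] (F : X.Modules) (hF : Coh.IsCoh F) (y : X)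
    (hy : y ∈ MoreMor.relAss f F) {W : Scheme.{u}} (j : W ⟶ X) [IsClosedImmersion j]
    (hj : Set.range j = closure {y})
    (hfl : ∀ w : W, FibGeneric (j ≫ f) w → FlatMod.IsFlatOverAt f F (j w)) :
    ∃ d : ℕ, ∀ w : W, FlatMor.fibreDimAt (j ≫ f) w = d := by
  obtain ⟨d, hd, -⟩ := exists_dim_fib f y
  refine ⟨d, fun w => ?_⟩
  have h : Cyc.HasRelDim (j ≫ f) d := by
    rw [hasRelDim_iff]
    intro w hw
    have hwy : j w ∈ closure ({y} : Set X) := by
      rw [← hj]; exact ⟨w, rfl⟩
    have hgen : ∃ C ∈ irreducibleComponents ↑(closure ({y} : Set X) ∩ f ⁻¹' {f (j w)}),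
        IsGenericPoint (⟨j w, hwy, rfl⟩ : ↑(closure ({y} : Set X) ∩ f ⁻¹' {f (j w)})) C :=
      ⟨_, closure_mem j f y hj w hw hwy, rfl⟩
    have h1 := (S1470.main f F hF y hy (j w) hwy hgen (hfl w hw)).2
    have h2 := rtd_le_of_isGenericPoint f y (f (j w)) (j w) hwy rfl hgen
    rw [rtd_comp, rtd_eq_zero_of_isPreimmersion j, add_zero, le_antisymm h1 h2, hd]
  exact Dual.H318.PureDim.fibreDimAt_eq (j ≫ f) d h w

end K260.RelAssDim
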